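import Mathlib
import Cfsg.Prelude.Def_Transfer

/-!
A group of order `p ^ 6` that is a split extension of an extraspecial group of order `p ^ 5` and
exponent `p`.
-/

set_option autoImplicit false

namespace CfsgLib.Fus3

open Subgroup Cfsg
open scoped commutatorElement

variable {Γ : Type*} [Group Γ]

/-- `G = Q ⋊ ⟨w⟩` with `Q = p ^ (1 + 4)` of exponent `p`, where the fixed points of `w` on
`Q / Z(Q)` lift to fixed points on `Q`. -/
structure XCfg (p : ℕ) (G Q : Subgroup Γ) (w : Γ) : Prop where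
  Q_le : Q ≤ G
  cardG : Nat.card G = p ^ 6
  extra : IsExtraspecial p Q
  cardQ : Nat.card Q = p ^ 5
  expQ : ∀ x ∈ Q, x ^ p = 1
  w_mem : w ∈ G
  w_not : w ∉ Q
  wp : w ^ p = 1
  split : ∀ y ∈ Q, ⁅w, y⁆ ∈ centralizer (Q : Set Γ) → ⁅w, y⁆ = 1

end CfsgLib.Fus3
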