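import Mathlib
import Cfsg.Agent.Lib.Fus2.NN2
import Cfsg.Agent.Lib.Fus3.Defs
import Cfsg.Agent.Lib.PGroup.Extraspecial

/-!
A `p`-group `S` with an extraspecial subgroup `Q` of index `p`, and an essential subgroup of
largest order moving the centre.
-/

set_option autoImplicit false
set_option linter.unusedSectionVars false

namespace CfsgLib.Fus3

open Subgroup Cfsg CfsgLib.LAE CfsgLib.Fusion CfsgLib.Fus2
open Cfsg.FusionSystem hiding inv_mem
open scoped commutatorElement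

variable {Γ : Type*} [Group Γ] {p : ℕ} {S Q Z E M A R T X X₀ X₁ : Subgroup Γ} {g h x y u : Γ}

theorem relIndex_cmSub_le [Finite Γ] (hR : R ≤ normalizer (X₀ : Set Γ))
    (hc : ∀ r ∈ R, ⁅u, r⁆ ∈ X₁) : (cmSub u X₀).relIndex R ≤ X₀.relIndex X₁ := by
  refine Nat.card_le_card_of_injective (α := R ⧸ (cmSub u X₀).subgroupOf R)
    (β := X₁ ⧸ X₀.subgroupOf X₁)
    (fun c => QuotientGroup.mk ⟨⁅u, (c.out : Γ)⁆, hc _ c.out.2⟩) fun c d e => ?_
  rw [← c.out_eq', ← d.out_eq', QuotientGroup.eq]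
  have e' : ⁅u, (c.out : Γ)⁆⁻¹ * ⁅u, (d.out : Γ)⁆ ∈ X₀ :=
    (QuotientGroup.eq (s := X₀.subgroupOf X₁) (a := ⟨_, hc _ c.out.2⟩) (b := ⟨_, hc _ d.out.2⟩)).1 e
  refine ⟨hR (mul_mem (inv_mem c.out.2) d.out.2), ?_⟩
  have := conj_mem' (hR c.out.2) e'
  convert this using 1
  simp only [subtype_apply, coe_mul, InvMemClass.coe_inv]
  group

theorem relIndex_cent_le [Finite Γ] (hc : ∀ r ∈ R, ⁅u, r⁆ ∈ X) :
    (centralizer {u}).relIndex R ≤ Nat.card X := by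
  have := relIndex_cmSub_le (X₀ := ⊥) (norm_bot R) hc
  rw [relIndex_bot_left] at this
  refine le_trans (le_of_eq ?_) this
  congr 1
  ext y
  rw [mem_cmSub, mem_bot, ← cm_eq_one_iff_mem, commutatorElement_eq_one_iff_commute,
    commutatorElement_eq_one_iff_commute]
  exact ⟨fun H => ⟨norm_bot ⊤ trivial, H.symm⟩, fun H => H.2.symm⟩

/-- `Q` is extraspecial of index `p` in `S` with centre `Z`. -/
structure XQ (p : ℕ) (S Q Z : Subgroup Γ) : Prop where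
  odd : p ≠ 2
  pS : IsPGroup p S
  QS : Q ≤ S
  iQ : Q.relIndex S = p
  extra : IsExtraspecial p Q
  big : p ^ 5 ≤ Nat.card Q
  eZ : Q ⊓ centralizer (Q : Set Γ) = Z

namespace XQ

theorem ZQ (h : XQ p S Q Z) : Z ≤ Q := h.eZ.ge.trans inf_le_left

theorem ZS (h : XQ p S Q Z) : Z ≤ S := h.ZQ.trans h.QS

theorem pQ (h : XQ p S Q Z) : IsPGroup p Q := h.pS.to_le h.QS

theorem cardZ (h : XQ p S Q Z) : Nat.card Z = p := h.eZ ▸ (PGroup.IsExtraspecial.ambient h.extra).2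

theorem cQ (h : XQ p S Q Z) : ⁅Q, Q⁆ = Z := h.eZ ▸ (PGroup.IsExtraspecial.ambient h.extra).1

theorem cm (h : XQ p S Q Z) (hx : x ∈ Q) (hy : y ∈ Q) : ⁅x, y⁆ ∈ Z :=
  h.cQ ▸ commutator_mem_commutator hx hy

theorem mem_Z (h : XQ p S Q Z) (hx : x ∈ Q) (hc : ∀ y ∈ Q, ⁅x, y⁆ = 1) : x ∈ Z :=
  h.eZ ▸ ⟨hx, mem_centralizer_of_cm hc⟩

theorem pw (h : XQ p S Q Z) (hx : x ∈ Z) : x ^ p = 1 :=
  congrArg Subtype.val (h.cardZ ▸ pow_card_eq_one' (x := (⟨x, hx⟩ : Z)))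

variable [Finite Γ] [hp : Fact p.Prime]

theorem SQ (h : XQ p S Q Z) : S ≤ normalizer (Q : Set Γ) := le_normalizer_of_prime h.pS h.QS h.iQ

theorem nZ (h : XQ p S Q Z) (hg : g ∈ normalizer (Q : Set Γ)) : g ∈ normalizer (Z : Set Γ) :=
  h.cQ ▸ Core.normalizer_inf_le_normalizer_commutator Q Q ⟨hg, hg⟩

theorem SnZ (h : XQ p S Q Z) : S ≤ normalizer (Z : Set Γ) := fun _ hs => h.nZ (h.SQ hs)

theorem SZ (h : XQ p S Q Z) : S ≤ centralizer (Z : Set Γ) :=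
  le_centralizer_of_card_prime h.pS h.ZS h.SnZ h.cardZ

theorem com (h : XQ p S Q Z) (hy : y ∈ S) (hx : x ∈ Z) : Commute y x := commute_of_mem (h.SZ hy) hx

theorem powZ (h : XQ p S Q Z) (hx : x ∈ Q) : x ^ p ∈ Z := by
  rw [← h.eZ, ← map_center_subtype]
  exact ⟨_, PGroup.IsExtraspecial.pow_mem_center h.extra ⟨x, hx⟩, rfl⟩

theorem eq_or (h : XQ p S Q Z) (hA : A ≤ Z) : A = ⊥ ∨ A = Z :=
  eq_or_eq_prime (by rw [relIndex_bot_left, h.cardZ]) bot_le hA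

theorem zpowers_eq (h : XQ p S Q Z) (hx : x ∈ Z) (h1 : x ≠ 1) : zpowers x = Z :=
  (h.eq_or (zpowers_le.2 hx)).resolve_left (by simpa using h1)

theorem sup_eq (h : XQ p S Q Z) (hu : u ∈ S) (huQ : u ∉ Q) : Q ⊔ zpowers u = S :=
  sup_zpowers_eq h.QS h.iQ hu huQ

theorem cS (h : XQ p S Q Z) : ⁅S, S⁆ ≤ Q := comm_le_of_prime h.pS h.iQ

theorem cmQ (h : XQ p S Q Z) (hx : x ∈ S) (hy : y ∈ S) : ⁅x, y⁆ ∈ Q :=
  h.cS (commutator_mem_commutator hx hy)

theorem ab (h : XQ p S Q Z) (hA : A ≤ Q) (hc : A ≤ centralizer (A : Set Γ))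
    (hi : A.relIndex Q ≤ p ^ 2) :
    Nat.card Q = p ^ 5 ∧ Nat.card A = p ^ 3 ∧ A.relIndex Q = p ^ 2 := by
  obtain ⟨m, -, hm⟩ := PGroup.IsExtraspecial.exists_card_eq h.extra
  have h1 := PGroup.IsExtraspecial.card_le_of_isMulCommutative h.extra hm (A := A.subgroupOf Q)
    ⟨⟨fun a b => Subtype.ext (Subtype.ext (hc b.2 _ a.2))⟩⟩
  rw [Nat.card_congr (subgroupOfEquivOfLe hA).toEquiv] at h1
  obtain ⟨i, hi'⟩ := exists_card_eq (h.pQ.to_le hA)
  obtain ⟨j, hj⟩ := exists_relIndex_eq h.pQ A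
  have h2 := card_eq_of_relIndex hA hi' hj
  have h3 := h.big
  have := hp.out.one_lt
  rw [hm, ← pow_add, Nat.pow_right_inj this] at h2
  rw [hm, Nat.pow_le_pow_iff_right this] at h3
  rw [hi', Nat.pow_le_pow_iff_right this] at h1
  rw [hj, Nat.pow_le_pow_iff_right this] at hi
  rw [hm, hi', hj]
  exact ⟨by congr 1; omega, by congr 1; omega, by congr 1; omega⟩

theorem not_ab (h : XQ p S Q Z) (hA : A ≤ Q) (hc : A ≤ centralizer (A : Set Γ))
    (hi : A.relIndex Q ≤ p) : False := by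
  have h1 := hp.out.one_lt
  have := (h.ab hA hc (by nlinarith)).2.2
  nlinarith

/-- `Q` is characteristic when no hyperplane is centralized modulo `Z`. -/
theorem nQ (h : XQ p S Q Z) (hg : g ∈ normalizer (S : Set Γ)) (hZ : g ∈ normalizer (Z : Set Γ))
    (hR : ∀ R ≤ Q, R.relIndex Q = p → ⁅S, S⁆ ≤ R → ¬ ⁅S, R⁆ ≤ Z) :
    g ∈ normalizer (Q : Set Γ) := by
  by_contra hn
  have e := mem_normalizer_iff_conjS.1 hg
  have hne : conjS g Q ≠ Q := fun e => hn (mem_normalizer_iff_conjS.2 e)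
  have l : conjS g Q ≤ S := e ▸ conjS_mono h.QS
  have i : (conjS g Q).relIndex S = p := by
    rw [← h.iQ]; conv_lhs => rw [← e]
    exact relIndex_map_map_of_injective _ _ (MulAut.conj g).injective
  have c : ⁅conjS g Q, conjS g Q⁆ = Z := by
    rw [← conjS_commutator, h.cQ, mem_normalizer_iff_conjS.1 hZ]
  refine hR _ inf_le_right (relIndex_inf_prime h.pS l h.QS i h.iQ hne)
    (le_inf (comm_le_of_prime h.pS i) h.cS) (commutator_le.2 fun s hs r hr => cm_swap ?_)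
  exact cm_sup (l.trans h.SnZ) (h.QS.trans h.SnZ) (fun y hy => c ▸ commutator_mem_commutator hr.1 hy)
    (fun y hy => h.cm hr.2 hy) s ((sup_eq_of_ne_prime l h.QS i h.iQ hne).ge hs)

theorem nt (h : XQ p S Q Z) {F : FusionSystem S} (hF : F.IsSaturated p) (hO : F.core = ⊥)
    (hu : u ∈ S) (huQ : u ∉ Q) : ¬ ∀ y ∈ Q, ⁅u, y⁆ ∈ Z := fun hc => by
  have n1 := h.QS.trans h.SnZ
  have hS : ⁅S, S⁆ ≤ Z := commutator_le.2 fun s hs => h.sup_eq hu huQ ▸
    cm_sup_zpowers n1 (h.SnZ hu) (fun y hy => cm_swap ((h.sup_eq hu huQ ▸ cm_sup_zpowers n1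
      (h.SnZ hu) (fun x hx => h.cm hy hx) (cm_swap (hc y hy)) : ∀ s ∈ S, ⁅y, s⁆ ∈ Z) s hs))
      (cm_swap ((h.sup_eq hu huQ ▸ cm_sup_zpowers n1 (h.SnZ hu) hc (by simp) :
        ∀ s ∈ S, ⁅u, s⁆ ∈ Z) s hs))
  have hb := eq_bot_of_isNormal_of_core hO (isNormal_top_of_no_essential h.pS hF fun E hE => by
    obtain ⟨h1, h2⟩ := essential_of_commutator_prime h.pS hF hE hE.1.1 le_rfl
      (essential_lt h.pS hF hE).ne h.cardZ h.ZS (le_centralizer_iff.1 h.SZ) hS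
    refine h.not_ab (A := E ⊓ Q) inf_le_right
      (fun a ha b hb => congrArg Subtype.val (h1 ⟨b, hb.1⟩ ⟨a, ha.1⟩)) ?_
    rw [inf_relIndex_right, ← h2]
    exact relIndex_le_of_le_right h.QS (relIndex_pos' _ _).ne')
  exact huQ (by rw [hb, mem_bot] at hu; simp [hu])

end XQ

/-- `M` is a model at `E` in which the normalizer of `Z` is strongly embedded over `E`. -/
structure XM (p : ℕ) (S Q Z E M : Subgroup Γ) : Prop
    extends XQ p S Q Z, Mod p (normalizerIn S E) E M where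
  nt : ∀ u ∈ S, u ∉ Q → ¬ ∀ y ∈ Q, ⁅u, y⁆ ∈ Z
  ne : ¬ S ≤ E
  se : ∀ g ∈ M, ∀ x ∈ Z, g * x * g⁻¹ ∉ Z → ∀ y ∈ normalizerIn S E, Commute y (g * x * g⁻¹) → y ∈ E
  mv : ∃ g ∈ M, ∃ x ∈ Z, g * x * g⁻¹ ∉ Z

variable [Finite Γ] [hp : Fact p.Prime]

theorem XQ.cent_eq (h : XQ p S Q Z) (nt : ∀ u ∈ S, u ∉ Q → ¬ ∀ y ∈ Q, ⁅u, y⁆ ∈ Z) :
    S ⊓ centralizer (S : Set Γ) = Z :=
  le_antisymm (fun x hx => h.mem_Z (by_contra fun H => nt x hx.1 H fun y hy => by
      rw [cm_eq_one hx.2 (h.QS hy)]; exact one_mem _) fun y hy => cm_eq_one hx.2 (h.QS hy))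
    (le_inf h.ZS (le_centralizer_iff.1 h.SZ))

theorem exists_xM (h : XQ p S Q Z) {F : FusionSystem S} (hl : LR p F) (hO : F.core = ⊥) :
    ∃ E M, F.IsEssential p E ∧ AMod p F E M ∧ XM p S Q Z E M := by
  have nt := fun u => h.nt (u := u) hl.sat hO
  have eZ := h.cent_eq nt
  obtain ⟨E₀, f₀, a1, a2, a3, a4⟩ := exists_essential_moving hl.pS hl.sat hO fun e => by
    have := h.cardZ
    rw [le_bot_iff.1 (h.ZS.trans e.le), card_bot] at this
    exact hp.out.one_lt.ne this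
  rw [eZ] at a4
  have ZE : ∀ {E}, F.IsEssential p E → Z ≤ E := fun hE z hz =>
    essential_mem_of_comm hE (h.ZS hz) fun x hx => h.com (hE.1.1 hx) hz
  obtain ⟨E, ⟨hE, f, hf, e, x, hx, hfx⟩, hmax⟩ := Set.exists_max_image {E : Subgroup Γ |
      F.IsEssential p E ∧ ∃ f, Mor F E f ∧ img E f = E ∧ ∃ x ∈ Z, f x ∉ Z} (fun E => Nat.card E)
    (Set.toFinite _) ⟨E₀, a1, f₀, a2, a3, by
      by_contra H
      push Not at H
      exact a4 ((a2.mono (ZE a1)).img_eq_self H)⟩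
  have big : ∀ R f, Mor F R f → Nat.card E < Nat.card R → ∀ x ∈ R, x ∈ Z → f x ∈ Z :=
    fun R f hf => alperin_induction hl.pS hl.sat
      (Φ := fun P f => Nat.card E < Nat.card P → ∀ x ∈ P, x ∈ Z → f x ∈ Z)
      (fun R hR α hα P hP hc x _ hx => by
        rcases hR with rfl | hR
        · have := ((mem_autGroup le_rfl).1 hα).img_center
          rw [img_extAut, eZ] at this
          exact this ▸ mem_img_of_mem _ hx
        · by_contra H
          exact (hc.trans_le (card_le_of_le' hP)).not_ge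
            (hmax R ⟨hR, _, (mem_autGroup hR.1.1).1 hα, img_extAut α, x, hx, H⟩))
      (fun P f g _ H e hc x hx hZ => e x hx ▸ H hc x hx hZ)
      (fun P Q f g hf hg H H' hm hc x hx hZ => H' (hc.trans_le (by
        rw [← hf.card_img]; exact card_le_of_le' (img_le_iff.2 hm))) _ (hm x hx) (H hc x hx hZ)) hf
  obtain ⟨M, hM⟩ := hl.ex E hE.1 hE.2.1
  refine ⟨E, M, hE, hM, h, hM.toMod, nt, (essential_lt hl.pS hl.sat hE).not_ge,
    fun g hg x hx hgx y hy hc => by_contra fun hyE => ?_, ?_⟩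
  · have s : SylIn p (normalizerIn S E) (M ⊓ centralizer {x}) := hM.syl.of_le
      (le_inf hM.GL' fun n hn => mem_centralizer_singleton_iff.2 (h.com hn.1 hx)) inf_le_left
    obtain ⟨k, hk, hk'⟩ := s.exists_conj (U := conjS g⁻¹ (zpowers y))
      ((pg_zpowers hM.pG hy).map _) (conjS_le_iff_forall.2 fun v hv => ⟨by
        exact M.mul_mem (M.mul_mem (M.inv_mem hg) (hM.GL' (zpowers_le.2 hy hv)))
          (M.inv_mem (M.inv_mem hg)),
        mem_centralizer_singleton_iff.2 (by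
          obtain ⟨i, rfl⟩ := hv
          have := (hc.zpow_left i).eq
          rw [inv_inv, mul_assoc, mul_assoc, inv_mul_eq_iff_eq_mul, ← mul_assoc, ← mul_assoc,
            ← mul_assoc, ← mul_assoc, ← this]
          group)⟩)
    have hkg := M.mul_mem hk.1 (M.inv_mem hg)
    have m := hM.mor (E ⊔ zpowers y) (sup_le hM.le (zpowers_le.2 hy)) _ hkg fun v hv => by
      obtain ⟨a, ha, i, rfl⟩ := (mem_sup_zpowers hy.2).1 hv
      have := mul_mem (hM.le (conj_mem (hM.norm hkg) ha))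
        (hk' _ (conj_mem_conjS.2 (zpow_mem_zpowers y i)))
      convert this using 1
      group
    have lt : Nat.card E < Nat.card (E ⊔ zpowers y : Subgroup Γ) :=
      lt_of_le_of_ne (card_le_of_le' le_sup_left) fun e => hyE
        ((eq_of_le_card le_sup_left e.ge).ge (mem_sup_right (mem_zpowers y)))
    have n : k * g⁻¹ ∈ normalizer (Z : Set Γ) := Core.mem_normalizer_of_forall_conj_mem
      fun z hz => big _ _ m lt z (mem_sup_left (ZE hE hz)) hz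
    refine hgx (mem_of_conj_mem n ?_)
    have e : k * g⁻¹ * (g * x * g⁻¹) * (k * g⁻¹)⁻¹ = k * x * k⁻¹ := by group
    rwa [e, mem_centralizer_singleton_iff.1 hk.2, mul_inv_cancel_right]
  · obtain ⟨g, hg, e'⟩ := hM.lift E f le_rfl hM.le hf e
    exact ⟨g, hg, x, hx, e' x (ZE hE hx) ▸ hfx⟩

namespace XM

theorem ES (h : XM p S Q Z E M) : E ≤ S := h.le.trans (normalizerIn_le S E)

theorem ZE (h : XM p S Q Z E M) : Z ≤ E := fun z hz =>
  h.cent z (h.GL' ⟨h.ZS hz, mem_normalizer_of_cm fun x hx => by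
    rw [(h.com (h.ES hx) hz).symm.commutator_eq]; exact one_mem _⟩) fun _ hx => h.com (h.ES hx) hz

theorem cj_mem (h : XM p S Q Z E M) (hg : g ∈ M) (hx : x ∈ Z) : g * x * g⁻¹ ∈ E :=
  conj_mem (h.norm hg) (h.ZE hx)

theorem cj_com (h : XM p S Q Z E M) (hg : g ∈ M) (hx : x ∈ Z) (hy : y ∈ E) :
    Commute y (g * x * g⁻¹) := by
  have := (h.com (h.ES (conj_mem' (h.norm hg) hy)) hx).conj g
  rwa [show g * (g⁻¹ * y * g) * g⁻¹ = y by group] at this

theorem cj_pow (h : XM p S Q Z E M) (hx : x ∈ Z) : (g * x * g⁻¹) ^ p = 1 := by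
  rw [conj_pow, h.pw hx]; group

theorem grow (h : XM p S Q Z E M) (hT : T ≤ S) (hn : E ≤ normalizer (T : Set Γ))
    (hc : ∀ y ∈ T, y ∈ normalizer (E : Set Γ) → y ∈ E) : T ≤ E := by_contra fun H =>
  let ⟨x, h1, h2, h3⟩ := exists_mem_normalizer_of_not_le h.pS h.ES hT hn H
  h3 (hc x h1 h2)

theorem mem_E (h : XM p S Q Z E M) (hg : g ∈ M) (hx : x ∈ Z) (hn : g * x * g⁻¹ ∉ Z) (hy : y ∈ S)
    (hc : Commute y (g * x * g⁻¹)) : y ∈ E :=
  h.grow (T := S ⊓ centralizer {g * x * g⁻¹}) inf_le_left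
    ((le_inf h.ES fun _ he => mem_centralizer_singleton_iff.2 (h.cj_com hg hx he)).trans
      le_normalizer)
    (fun v hv hv' => h.se g hg x hx hn v ⟨hv.1, hv'⟩ (mem_centralizer_singleton_iff.1 hv.2))
    ⟨hy, mem_centralizer_singleton_iff.2 hc⟩

theorem not_nZ (h : XM p S Q Z E M) : ¬ M ≤ normalizer (Z : Set Γ) := fun H =>
  let ⟨_, hg, _, hx, hn⟩ := h.mv
  hn (conj_mem (H hg) hx)

theorem eq_bot (h : XM p S Q Z E M) (hA : A ≤ Z) (hn : M ≤ normalizer (A : Set Γ)) : A = ⊥ :=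
  (h.eq_or hA).resolve_right fun e => h.not_nZ (e ▸ hn)

theorem ab_of (h : XM p S Q Z E M) (hc : ⁅E, E⁆ ≤ Z) : E ≤ centralizer (E : Set Γ) :=
  commutator_eq_bot_iff_le_centralizer.1 (h.eq_bot hc (le_normalizer_commutator h.norm h.norm))

theorem not_le (h : XM p S Q Z E M) : ¬ E ≤ Q := fun H => by
  obtain ⟨g, hg, x, hx, hn⟩ := h.mv
  have c := h.ab_of (h.cQ ▸ commutator_mono H H)
  refine h.not_ab H c (le_trans (relIndex_le_of_le_left (H := Q ⊓ centralizer {g * x * g⁻¹})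
    (fun y hy => h.mem_E hg hx hn (h.QS hy.1) (mem_centralizer_singleton_iff.1 hy.2))
    (relIndex_pos' _ _).ne') ?_)
  rw [inf_relIndex_left, ← h.cardZ]
  exact relIndex_cent_le fun r hr => h.cm (H (h.cj_mem hg hx)) hr

theorem iD (h : XM p S Q Z E M) : (E ⊓ Q).relIndex E = p := by
  rw [inf_relIndex_left]
  refine relIndex_eq_prime h.pE h.not_le (lt_of_le_of_lt
    (relIndex_le_of_le_right h.ES (relIndex_pos' _ _).ne') ?_)
  have := hp.out.one_lt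
  rw [h.iQ]; nlinarith

theorem exists_y (h : XM p S Q Z E M) : ∃ y ∈ Q, y ∈ normalizer (E : Set Γ) ∧ y ∉ E :=
  exists_mem_normalizer_of_not_le h.pS h.ES h.QS (h.ES.trans h.SQ) fun H => h.ne (by
    obtain ⟨u, hu, huQ⟩ := SetLike.not_le_iff_exists.1 h.not_le
    rw [← h.sup_eq (h.ES hu) huQ]
    exact sup_le H (zpowers_le.2 hu))

/-- Elements of `N_S(E)` are products of elements of `E` and `Q`. -/
theorem exists_mul (h : XM p S Q Z E M) (hy : y ∈ S) : ∃ q ∈ Q, ∃ e ∈ E, y = q * e := by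
  obtain ⟨u, hu, huQ⟩ := SetLike.not_le_iff_exists.1 h.not_le
  obtain ⟨q, hq, i, e⟩ := exists_eq_mul_zpow h.pS h.QS h.iQ (h.ES hu) huQ hy
  exact ⟨q, hq, _, zpow_mem hu i, e⟩

theorem not_nN (h : XM p S Q Z E M) (hg : g ∈ M) (hx : x ∈ Z) (hn : g * x * g⁻¹ ∉ Z) :
    g ∉ normalizer (normalizerIn S E : Set Γ) := fun H => by
  obtain ⟨y, h1, h2, h3⟩ := h.exists_y
  have := (h.com (conj_mem' H (⟨h.QS h1, h2⟩ : y ∈ normalizerIn S E)).1 hx).conj g
  rw [show g * (g⁻¹ * y * g) * g⁻¹ = y by group] at this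
  exact h3 (h.se g hg x hx hn y ⟨h.QS h1, h2⟩ this)

theorem nZ_of_nN (h : XM p S Q Z E M) (hg : g ∈ M)
    (hn : g ∈ normalizer (normalizerIn S E : Set Γ)) : g ∈ normalizer (Z : Set Γ) :=
  Core.mem_normalizer_of_forall_conj_mem fun _ hx => by_contra fun H => h.not_nN hg hx H hn

end XM

end CfsgLib.Fus3
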