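import Mathlib
import Cfsg.Agent.Lib.Fus3.XS

/-!
The case in which all conjugates of the centre lie in the extraspecial subgroup.
-/

set_option autoImplicit false
set_option linter.unusedSectionVars false

namespace CfsgLib.Fus3

open Subgroup Cfsg CfsgLib.LAE CfsgLib.Fusion CfsgLib.Fus2
open Cfsg.FusionSystem hiding inv_mem
open scoped commutatorElement

variable {Γ : Type*} [Group Γ] [Finite Γ] {p : ℕ} [hp : Fact p.Prime]
  {S Q Z E M A R T X Y : Subgroup Γ} {g a t x y u : Γ}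

namespace XQ

theorem mul_pow' (h : XQ p S Q Z) (hx : x ∈ Q) (hy : y ∈ Q) : (x * y) ^ p = x ^ p * y ^ p := by
  obtain ⟨c, hc⟩ := PGroup.dvd_choose_two_of_odd (hp.out.odd_of_ne_two h.odd)
  rw [Core.mul_pow_of_commute_commutatorElement (h.com (h.QS hx) (h.cm hy hx))
    (h.com (h.QS hy) (h.cm hy hx)), hc, pow_mul, h.pw (h.cm hy hx), one_pow, one_mul]

/-- The elements of order dividing `p` in `Q`. -/
def om (h : XQ p S Q Z) : Subgroup Γ where
  carrier := {x | x ∈ Q ∧ x ^ p = 1}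
  one_mem' := ⟨Q.one_mem, one_pow p⟩
  mul_mem' := fun ha hb => ⟨Q.mul_mem ha.1 hb.1, by rw [h.mul_pow' ha.1 hb.1, ha.2, hb.2, one_mul]⟩
  inv_mem' := fun ha => ⟨Q.inv_mem ha.1, by rw [inv_pow, ha.2, inv_one]⟩

theorem Z_le_om (h : XQ p S Q Z) : Z ≤ h.om := fun _ hx => ⟨h.ZQ hx, h.pw hx⟩

theorem cm_om (h : XQ p S Q Z) (hx : x ∈ S) (hy : y ∈ Q) : ⁅x, y⁆ ∈ h.om :=
  ⟨cm_mem_right (h.SQ hx) hy, by
    rw [commutatorElement_def, h.mul_pow' (conj_mem (h.SQ hx) hy) (Q.inv_mem hy), conj_pow,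
      (h.com hx (h.powZ hy)).eq, inv_pow]
    group⟩

theorem n_om (h : XQ p S Q Z) (hg : g ∈ normalizer (Q : Set Γ)) : g ∈ normalizer (h.om : Set Γ) :=
  Core.mem_normalizer_of_forall_conj_mem fun x hx =>
    ⟨conj_mem hg hx.1, by rw [conj_pow, hx.2]; group⟩

theorem om_step (h : XQ p S Q Z) {b c : ℤ} (hX : X ≤ h.om) (hY : Y ≤ Q) (w : Wt t b X Y)
    (wZ : Wt t c ⊥ Z) (hne : (b : ZMod p) ≠ c) : Y ≤ h.om := fun y hy => ⟨hY hy, by
  have h1 := hX (w y hy)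
  refine wZ.step (h.pQ.to_le h.ZQ) (h.powZ (hY hy)) (b := b) ?_ hne
  have := h.mul_pow' (Q.zpow_mem (hY hy) b) h1.1
  rw [h1.2, mul_inv_cancel_left, conj_pow, mul_one] at this
  rw [Ew, this, mem_bot, ← zpow_natCast, ← zpow_natCast, ← zpow_mul, ← zpow_mul, mul_comm b,
    inv_mul_cancel]⟩

end XQ

omit [Finite Γ] hp in
theorem cm_mul_left (a b x : Γ) : ⁅a * b, x⁆ = a * ⁅b, x⁆ * a⁻¹ * ⁅a, x⁆ := by group

theorem wt_neg (H : ∀ y ∈ Y, y * (t * y * t⁻¹) ∈ X) : Wt t (-1) X Y := fun y hy => by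
  simpa using H y hy

theorem neg_one_ne (h2 : p ≠ 2) : ((-1 : ℤ) : ZMod p) ≠ (1 : ℤ) := fun e => by
  have := (ZMod.intCast_eq_intCast_iff_dvd_sub _ _ p).1 e
  exact h2 ((Nat.prime_dvd_prime_iff_eq hp.out Nat.prime_two).1 (Int.natCast_dvd_natCast.1 this))

theorem conjS_le_normalizer (H : X ≤ normalizer (conjS g⁻¹ Y : Set Γ)) :
    conjS g X ≤ normalizer (Y : Set Γ) := by
  have := conjS_mono (g := g) H
  rwa [conjS_normalizer, conjS_conjS_inv] at this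

namespace XM

theorem not_mem_inv (h : XM p S Q Z E M) (hx : x ∈ Z) (hn : g * x * g⁻¹ ∉ Z) :
    g⁻¹ * x * g⁻¹⁻¹ ∉ Z := fun H => by
  have h1 : x ≠ 1 := fun e => hn (by simp [e])
  have : g⁻¹ ∈ normalizer (Z : Set Γ) := mem_normalizer_of_conjS_le (by
    conv_lhs => rw [← h.zpowers_eq hx h1, conjS_def, MonoidHom.map_zpowers]
    exact zpowers_le.2 H)
  exact hn (conj_mem (inv_mem_iff.1 this) hx)

theorem conjS_Z (h : XM p S Q Z E M) (hx : x ∈ Z) (hn : g * x * g⁻¹ ∉ Z) :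
    conjS g Z = zpowers (g * x * g⁻¹) := by
  rw [← h.zpowers_eq hx fun e => hn (by simp [e]), conjS_def, MonoidHom.map_zpowers]; rfl

theorem conjS_E (h : XM p S Q Z E M) (hg : g ∈ M) : conjS g E = E :=
  mem_normalizer_iff_conjS.1 (h.norm hg)

theorem nL (h : XM p S Q Z E M) (hg : g ∈ M) (hx : x ∈ Z) (hn : g * x * g⁻¹ ∉ Z) :
    ¬ conjS g (normalizerIn S E) ≤ normalizer (Z : Set Γ) := fun H => by
  obtain ⟨y, h1, h2, h3⟩ := h.exists_y
  have c := le_centralizer_of_card_prime (h.pG.map _)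
    (h.ZE.trans ((h.conjS_E hg).ge.trans (conjS_mono h.le))) H h.cardZ
  have := (commute_of_mem (c (conj_mem_conjS.2 (⟨h.QS h1, h2⟩ : y ∈ normalizerIn S E))) hx).conj g⁻¹
  rw [show g⁻¹ * (g * y * g⁻¹) * g⁻¹⁻¹ = y by group] at this
  exact h3 (h.se _ (M.inv_mem hg) x hx (h.not_mem_inv hx hn) y ⟨h.QS h1, h2⟩ this)

theorem caseA (h : XM p S Q Z E M) (hA : ∀ g ∈ M, ∀ x ∈ Z, g * x * g⁻¹ ∈ Q) :
    ∃ w, XCfg p S Q w ∧ (Nat.card (Q ⊓ centralizer {w} : Subgroup Γ) = p ^ 2 ∨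
      Nat.card (Q ⊓ centralizer {w} : Subgroup Γ) = p ^ 3) := by
  have cA : ∀ g ∈ M, ⁅S, conjS g Z⁆ ≤ Z := fun g hg => commutator_le.2 fun s hs v hv => by
    obtain ⟨x, hx, rfl⟩ := exists_of_mem_conjS hv
    obtain ⟨q, hq, e, he, rfl⟩ := h.exists_mul hs
    rw [cm_mul_left, (h.cj_com hg hx he).commutator_eq, mul_one, mul_inv_cancel, one_mul]
    exact h.cm hq (hA g hg x hx)
  obtain ⟨a, ha, x, hx, hu⟩ := h.mv
  have ha' := M.inv_mem ha
  have eZ := h.conjS_Z hx hu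
  have eE := h.conjS_E ha
  have p1 := hp.out.one_lt
  have iE : E.relIndex S = p := by
    have h1 := relIndex_le_of_le_left (H := S ⊓ centralizer {a * x * a⁻¹}) (L := S)
      (fun y hy => h.mem_E ha hx hu hy.1 (mem_centralizer_singleton_iff.1 hy.2))
      (relIndex_pos' _ _).ne'
    have h2 := relIndex_cent_le (X := Z) fun r hr => cm_swap
      (commutator_le.1 (cA a ha) r hr _ (conj_mem_conjS.2 hx))
    rw [inf_relIndex_left] at h1
    rw [h.cardZ] at h2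
    exact relIndex_eq_prime h.pS h.ne (by nlinarith)
  have nE := le_normalizer_of_prime h.pS h.ES iE
  have eN := normalizerIn_eq nE
  have hM : Mod p S E M := eN ▸ h.toMod
  have P := hM.par iE ha (eN ▸ h.not_nN ha hx hu)
  have nL : ¬ S ⊔ conjS a S ≤ normalizer (Z : Set Γ) := fun H =>
    h.nL ha hx hu (eN.symm ▸ le_sup_right.trans H)
  have LM : S ⊔ conjS a S ≤ M := sup_le hM.GL' (conjS_le_of_le_of_mem hM.GL' ha)
  have nD : S ≤ normalizer ((E ⊓ Q : Subgroup Γ) : Set Γ) := le_normalizer_inf nE h.SQ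
  have iD := h.iD
  have DE : E ⊓ Q ≤ E := inf_le_left
  have DQ : E ⊓ Q ≤ Q := inf_le_right
  have ZD : ∀ g ∈ M, conjS g Z ≤ E ⊓ Q := fun g hg =>
    conjS_le_iff_forall.2 fun x hx => ⟨h.cj_mem hg hx, hA g hg x hx⟩
  have ZD1 : Z ≤ E ⊓ Q := le_inf h.ZE h.ZQ
  have jD : (E ⊓ Q).relIndex Q = p := by
    rw [inf_comm, inf_relIndex_left]
    refine relIndex_eq_prime h.pQ (fun H => ?_) (lt_of_le_of_lt
      (relIndex_le_of_le_right h.QS (relIndex_pos' _ _).ne') (by rw [iE]; nlinarith))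
    obtain ⟨y, h1, -, h3⟩ := h.exists_y
    exact h3 (H h1)
  have mD : ∀ y ∈ E, y ∈ Q → y ∈ E ⊓ Q := fun _ h1 h2 => ⟨h1, h2⟩
  set D := E ⊓ Q
  have cD : ⁅D, D⁆ ≤ Z := h.cQ ▸ commutator_mono DQ DQ
  have naD : ¬ D ≤ centralizer (D : Set Γ) := fun H => h.not_ab DQ H jD.le
  have ZD' : ∀ g ∈ M, Z ≤ conjS g D := fun g hg => le_conjS_iff.2 (ZD _ (M.inv_mem hg))
  have D'E : ∀ g ∈ M, conjS g D ≤ E := fun g hg => h.conjS_E hg ▸ conjS_mono DE
  have iD' : ∀ g ∈ M, (conjS g D).relIndex E = p := fun g hg => by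
    conv_lhs => rw [← h.conjS_E hg]
    rw [relIndex_conjS, iD]
  have cW : ∀ g ∈ M, ⁅S, Z ⊔ conjS g Z⁆ ≤ Z := fun g hg => Core.commutator_sup_right_le
    le_normalizer (((ZD g hg).trans (DE.trans h.ES)).trans h.SnZ)
    ((commutator_eq_bot_iff_le_centralizer.2 h.SZ).le.trans bot_le) (cA g hg)
  have nW : S ⊔ conjS a S ≤ normalizer ((Z ⊔ conjS a Z : Subgroup Γ) : Set Γ) :=
    sup_le (le_normalizer_of_cm_le ((cW a ha).trans le_sup_left) le_rfl) (conjS_le_normalizer (by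
      rw [conjS_sup, conjS_inv_conjS, sup_comm]
      exact le_normalizer_of_cm_le ((cW _ ha').trans le_sup_left) le_rfl))
  have n0 : ∀ g ∈ M, S ≤ normalizer ((D ⊓ conjS g D : Subgroup Γ) : Set Γ) := fun g hg s hs => by
    obtain ⟨q, hq, e, he, rfl⟩ := h.exists_mul hs
    exact mul_mem (mem_normalizer_of_cm fun y hy => le_inf ZD1 (ZD' g hg) (h.cm hq (DQ hy.1)))
      (le_normalizer_inf (h.ES.trans nD) (le_normalizer_of_prime h.pE (D'E g hg) (iD' g hg)) he)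
  have n0' : S ⊔ conjS a S ≤ normalizer ((D ⊓ conjS a D : Subgroup Γ) : Set Γ) :=
    sup_le (n0 a ha) (conjS_le_normalizer (by
      rw [conjS_inf, conjS_inv_conjS, inf_comm]; exact n0 _ ha'))
  have W0 : Z ⊔ conjS a Z ≤ D ⊓ conjS a D :=
    sup_le (le_inf ZD1 (ZD' a ha)) (le_inf (ZD a ha) (conjS_mono ZD1))
  have cD' : ⁅conjS a D, conjS a D⁆ ≤ conjS a Z := conjS_commutator a D D ▸ conjS_mono cD
  have c0 : D ⊓ conjS a D ≤ centralizer ((D ⊓ conjS a D : Subgroup Γ) : Set Γ) :=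
    commutator_eq_bot_iff_le_centralizer.1 ((h.eq_or
      ((commutator_mono inf_le_left inf_le_left).trans cD)).resolve_right fun e => hu
        ((eq_of_le_card (e.ge.trans ((commutator_mono inf_le_right inf_le_right).trans cD'))
          (card_conjS a Z).le).ge (conj_mem_conjS.2 hx)))
  have cE : E ≤ centralizer ((Z ⊔ conjS a Z : Subgroup Γ) : Set Γ) := fun e he =>
    eZ ▸ mem_centralizer_sup_zpowers (h.SZ (h.ES he)) (h.cj_com ha hx he)
  have cardW : Nat.card (Z ⊔ conjS a Z : Subgroup Γ) = p ^ 2 := by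
    rw [card_eq_of_relIndex le_sup_left h.cardZ (eZ ▸ relIndex_sup_zpowers
      (h.SnZ (h.ES (h.cj_mem ha hx))) hu (h.cj_pow hx ▸ Z.one_mem)), sq]
  have Wom : Z ⊔ conjS a Z ≤ h.om :=
    sup_le h.Z_le_om (eZ ▸ zpowers_le.2 ⟨hA a ha x hx, h.cj_pow hx⟩)
  have ZW : Z ≤ Z ⊔ conjS a Z := le_sup_left
  have cD'W := cD'.trans (le_sup_right (a := Z))
  have D0D : D ⊓ conjS a D ≤ D := inf_le_left
  have D0D' : D ⊓ conjS a D ≤ conjS a D := inf_le_right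
  have m0 : ∀ y ∈ conjS a D, y ∈ Q → y ∈ D ⊓ conjS a D := fun y h1 h2 => ⟨mD y (D'E a ha h1) h2, h1⟩
  have ne : conjS a D ≠ D := fun e => naD (by simpa only [e, inf_idem] using c0)
  have i0 : (D ⊓ conjS a D).relIndex D = p := inf_comm D _ ▸
    relIndex_inf_prime h.pE (D'E a ha) DE (iD' a ha) iD ne
  have i0' : (D ⊓ conjS a D).relIndex (conjS a D) = p :=
    relIndex_inf_prime h.pE DE (D'E a ha) iD (iD' a ha) ne.symm
  set W := Z ⊔ conjS a Z
  set D₀ := D ⊓ conjS a D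
  set L := S ⊔ conjS a S
  obtain ⟨cQ, c3, -⟩ := h.ab (D0D.trans DQ) c0 (by
    rw [← relIndex_mul_relIndex _ _ _ D0D DQ, i0, jD, sq])
  have iW : W.relIndex D₀ = p := relIndex_eq_of_card W0 cardW (by rw [c3]; ring)
  have D0E := D0D.trans DE
  have cED : ¬ ⁅E, D₀⁆ ≤ Z := fun H => by
    rcases h.eq_or H with e | e
    · obtain ⟨d, hd, hd0⟩ := exists_not_mem i0
      have := commutator_eq_bot_iff_le_centralizer.1 e
      exact naD (sup_zpowers_eq D0D i0 hd hd0 ▸ sup_zpowers_le_centralizer c0 (this (DE hd)))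
    · exact nL (e ▸ le_normalizer_commutator P.norm n0')
  have cEW : ∀ e ∈ E, ∀ d ∈ D₀, ⁅e, d⁆ ∈ W :=
    cm_mem_of_prime h.pE D0E W0 (P.EL.trans nW) (P.EL.trans n0') iW
  have s : NatSec p S E L D₀ E := ⟨P, D0E, le_rfl, n0', P.norm, by
    rw [← relIndex_mul_relIndex _ _ _ D0D DE, i0, iD, sq], fun H => by
      have := P.le_normalizer_of_res (H.trans D0D) DE nD
      exact nL ((h.eq_or cD).resolve_left (fun e => naD
        (commutator_eq_bot_iff_le_centralizer.1 e)) ▸ le_normalizer_commutator this this)⟩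
  obtain ⟨z, hz, hzc, zS, z1, z2⟩ := s.exists_z
  have zZ := h.nZ_of_nN (LM hz) (eN.symm ▸ zS)
  have SnW := P.GL'.trans nW
  have nQE : ∀ y ∈ Q, y ∉ E → ∀ e ∈ E, e ∉ D → ⁅y, e⁆ ∉ D₀ := fun y hy hyE e he heD H =>
    s.not_cm (h.QS hy) hyE (sup_zpowers_eq DE iD he heD ▸ cm_sup_zpowers
      (DE.trans (P.EL.trans n0')) (n0' (P.EL he)) (fun d hd => W0 (ZW (h.cm hy (DQ hd)))) H)
  obtain ⟨y, hy, -, hyE⟩ := h.exists_y
  obtain ⟨e, he, heD⟩ := exists_not_mem iD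
  have zQ : z ∈ normalizer (Q : Set Γ) := h.nQ zS zZ fun R hR iR _ H => by
    have e1 : R ⊔ D₀ = Q := (eq_or_eq_prime iR le_sup_left (sup_le hR (D0D.trans DQ))).resolve_left
      fun e1 => cED ((commutator_mono h.ES (le_sup_right.trans e1.le)).trans H)
    exact nQE y hy hyE e he heD (W0 (cm_swap (cm_sup ((hR.trans h.QS).trans SnW)
      ((D0E.trans h.ES).trans SnW) (fun r hr => ZW (commutator_le.1 H e (h.ES he) r hr))
      (cEW e he) y (e1.ge hy))))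
  have zD : z ∈ normalizer (D : Set Γ) := inf_normalizer_le_normalizer_inf ⟨P.norm hz, zQ⟩
  have w1 : Wt z 1 W D₀ := wt_one fun d hd =>
    cm_mem_of_res (P.res_comm_prime W0 (D0E.trans h.ES) nW n0' iW) hz hzc hd
  have w2 : Wt z (-1) D₀ E := wt_neg z2
  have w3 : Wt z 1 D Q := (wt_one z1).inf h.QS zQ
  obtain ⟨c, wZ⟩ := exists_wt (h.pQ.to_le h.ZQ) bot_le (by rw [relIndex_bot_left, h.cardZ])
    (norm_bot ⊤ trivial) zZ
  have cb : ∀ {U V : Subgroup Γ}, U ≤ centralizer (V : Set Γ) → ⁅U, V⁆ ≤ ⊥ := fun H =>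
    (commutator_eq_bot_iff_le_centralizer.2 H).le
  have hc : ((-1 : ℤ) : ZMod p) = c := by_contra fun H => by
    have := comm_le_of_wt (h.pQ.to_le h.ZQ) (norm_bot ⊤ trivial) (norm_bot D) (norm_bot D₀) (n0' hz)
      ((commutator_mono le_rfl D0D).trans cD) (cb ((DE.trans h.ES).trans h.SZ))
      (cb ((D0E.trans h.ES).trans h.SZ)) (cb c0) (cb (DE.trans cE)) (w2.mono le_rfl DE) w1 wZ
      (by rwa [mul_one])
    obtain ⟨d, hd, hd0⟩ := exists_not_mem i0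
    exact naD (sup_zpowers_eq D0D i0 hd hd0 ▸ sup_zpowers_le_centralizer c0
      (commutator_eq_bot_iff_le_centralizer.1 (le_bot_iff.1 this) hd))
  have hc1 : ((1 : ℤ) : ZMod p) ≠ c := hc ▸ (neg_one_ne h.odd).symm
  have Dom : D ≤ h.om := sup_zpowers_eq D0D i0 (mD _ (cm_mem_right (nE (h.QS hy)) he)
    (h.cmQ (h.QS hy) (h.ES he))) (nQE y hy hyE e he heD) ▸ sup_le
      (h.om_step Wom (D0D.trans DQ) w1 wZ hc1) (zpowers_le.2 (cm_swap (h.cm_om (h.ES he) hy)))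
  have Qom : Q ≤ h.om := h.om_step Dom le_rfl w3 wZ hc1
  obtain ⟨g, hg, hg0⟩ := exists_not_mem i0'
  have D'E := D'E a ha
  have zD' : z ∈ normalizer (conjS a D : Set Γ) := Core.mem_normalizer_of_forall_conj_mem
    fun d hd => by simpa using mul_mem (inv_mem hd) (D0D' (z2 d (D'E hd)))
  have k1 := ew_eig (nW hz) (D'E.trans (h.ES.trans SnW)) zD' cD'W w1 hg (w2 g (D'E hg))
  have k2 : (g ^ (1 : ℤ))⁻¹ * (z * g * z⁻¹) ∈ conjS a D :=
    mul_mem (inv_mem (zpow_mem hg 1)) (conj_mem zD' hg)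
  have k3 : (g ^ (1 : ℤ))⁻¹ * (z * g * z⁻¹) ∉ Q := fun H =>
    hg0 (w2.step h.pE (D'E hg) (m0 _ k2 H) (neg_one_ne h.odd).symm)
  set w := (g ^ (1 : ℤ))⁻¹ * (z * g * z⁻¹)
  have wE := D'E k2
  have inD : ∀ y ∈ Q, ⁅w, y⁆ ∈ D₀ → y ∈ D := fun y hy H =>
    mD y (by_contra fun H' => nQE y hy H' w wE (fun H'' => k3 (DQ H'')) (cm_swap H)) hy
  have inW : ∀ y ∈ D₀, ⁅w, y⁆ ∈ Z → y ∈ W := fun y hy H => by_contra fun H' => cED
    (commutator_le.2 fun v hv d hd => cm_swap ((sup_zpowers_eq DE iD wE (fun H'' => k3 (DQ H'')) ▸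
      cm_sup_zpowers ((DE.trans h.ES).trans h.SnZ) (h.SnZ (h.ES wE))
        (fun d' hd' => h.cm (DQ (D0D hd)) (DQ hd'))
        (cm_swap ((sup_zpowers_eq W0 iW hy H' ▸ cm_sup_zpowers
          ((W0.trans (D0E.trans h.ES)).trans h.SnZ) (h.SnZ (h.ES (D0E hy)))
          (fun v hv => by rw [cm_eq_one (cE wE) hv]; exact one_mem _) H :
            ∀ d ∈ D₀, ⁅w, d⁆ ∈ Z) d hd)) : ∀ v ∈ E, ⁅d, v⁆ ∈ Z) v hv))
  have split : ∀ y ∈ Q, ⁅w, y⁆ ∈ Z → ⁅w, y⁆ = 1 := fun y hy H => by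
    have yD := inD y hy (W0 (ZW H))
    have y1 := DE (conj_mem zD yD)
    have k4 : w * (z * w * z⁻¹) ∈ W := by simpa [Ew] using k1
    have H1 : ⁅w, z * y * z⁻¹⁆ ∈ Z := by
      have := conj_mem zZ H
      rw [conjugate_commutatorElement, show z * w * z⁻¹ = w⁻¹ * (w * (z * w * z⁻¹)) by group,
        cm_mul_left, cm_eq_one' (cE y1) k4, mul_one, mul_inv_cancel, one_mul] at this
      simpa using cm_zpow_left (inv_mem (h.SnZ (h.ES wE))) this (-1)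
    have H2 := inW _ (z2 y (DE yD)) ((cmSub w Z).mul_mem ⟨h.SnZ (h.QS hy), H⟩
      ⟨h.SnZ (h.ES y1), H1⟩).2
    refine wZ.step (h.pQ.to_le h.ZQ) H (Ew.comm (a := -1) (b := -1) (norm_bot ⊤ trivial)
      (norm_bot ⊤ trivial) (norm_bot ⊤ trivial) (h.com (h.ES wE) H).commutator_eq
      (h.com (h.QS hy) H).commutator_eq (cm_eq_one' (cE y1) k1)
      (cm_eq_one (cE wE) (by simpa using H2))) (by simpa using hc1)
  have WC : W ≤ Q ⊓ centralizer {w} := fun v hv =>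
    ⟨DQ (D0D (W0 hv)), cm_eq_one_iff_mem.1 (cm_eq_one' (cE wE) hv)⟩
  have cC : ∀ v ∈ Q ⊓ centralizer {w}, ⁅w, v⁆ = 1 := fun v hv =>
    (Commute.symm (mem_centralizer_singleton_iff.1 hv.2)).commutator_eq
  have CD : Q ⊓ centralizer {w} ≤ D := fun v hv => inD v hv.1 (cC v hv ▸ one_mem _)
  have iC : W.relIndex (Q ⊓ centralizer {w}) ≤ p := by
    refine le_trans (relIndex_le_of_le_left (H := (Q ⊓ centralizer {w}) ⊓ D₀)
      (fun v hv => inW v hv.2 (cC v hv.1 ▸ one_mem _)) (relIndex_pos' _ _).ne') ?_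
    rw [inf_relIndex_left, ← i0]
    exact relIndex_le_of_le_right CD (relIndex_pos' _ _).ne'
  refine ⟨w, ⟨h.QS, by rw [card_eq_of_relIndex h.QS cQ h.iQ]; ring, h.extra, cQ,
    fun q hq => (Qom hq).2, h.ES wE, k3, ?_, fun y hy H =>
      split y hy (h.eZ ▸ ⟨h.cmQ (h.ES wE) (h.QS hy), H⟩)⟩, ?_⟩
  · obtain ⟨d, hd, e⟩ := exists_of_mem_conjS k2
    rw [e, conj_pow, (Dom hd).2]; group
  · by_cases H : Q ⊓ centralizer {w} ≤ W
    · exact Or.inl (le_antisymm H WC ▸ cardW)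
    · exact Or.inr (by
        rw [card_eq_of_relIndex WC cardW
          (relIndex_eq_prime (h.pQ.to_le inf_le_left) H (by nlinarith))]; ring)

end XM

end CfsgLib.Fus3
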