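import Mathlib
import Cfsg.Agent.Lib.Fus3.XA

/-!
Anisotropic quadratic functions on a `p`-group, and the action of an element on `Q / Z(Q)`.
-/

set_option autoImplicit false
set_option linter.unusedSectionVars false

namespace CfsgLib.Fus3

open Subgroup Cfsg CfsgLib.LAE CfsgLib.Fusion CfsgLib.Fus2
open scoped commutatorElement

variable {Γ : Type*} [Group Γ] [Finite Γ] {p : ℕ} [hp : Fact p.Prime]
  {S Q Z G G' K X Y : Subgroup Γ} {x y w u r c : Γ}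

theorem exists_chi (hY : IsPGroup p Y) (hXY : X ≤ Y) (hi : X.relIndex Y = p) :
    ∃ φ : Γ → ZMod p, (∀ a ∈ Y, ∀ b ∈ Y, φ (a * b) = φ a + φ b) ∧ ∀ a ∈ Y, φ a = 0 ↔ a ∈ X := by
  classical
  have := normal_subgroupOf_of_le_normalizer (le_normalizer_of_prime hY hXY hi)
  let e : Y ⧸ X.subgroupOf Y ≃* Multiplicative (ZMod p) := mulEquivOfPrimeCardEq hi
    (by rw [Nat.card_congr Multiplicative.toAdd, Nat.card_zmod])
  refine ⟨fun g => if h : g ∈ Y then (e (⟨g, h⟩ : Y)).toAdd else 0, fun a ha b hb => ?_,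
    fun a ha => ?_⟩
  · simp only [dif_pos ha, dif_pos hb, dif_pos (mul_mem ha hb)]
    rw [← toAdd_mul, ← map_mul]
    rfl
  · simp only [dif_pos ha]
    rw [toAdd_eq_zero, e.map_eq_one_iff, QuotientGroup.eq_one_iff, mem_subgroupOf]

/-- A quadratic function `χ` on `G` with polar form `β`, vanishing only on `K`. -/
structure QF (p : ℕ) (G K : Subgroup Γ) (χ : Γ → ZMod p) (β : Γ → Γ → ZMod p) : Prop where
  odd : p ≠ 2
  mul : ∀ y ∈ G, ∀ w ∈ G, χ (y * w) = χ y + χ w + β y w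
  add : ∀ y ∈ G, ∀ y' ∈ G, ∀ w ∈ G, β (y * y') w = β y w + β y' w
  sym : ∀ y ∈ G, ∀ w ∈ G, β y w = β w y
  an : ∀ y ∈ G, χ y = 0 → y ∈ K

namespace QF

variable {χ : Γ → ZMod p} {β : Γ → Γ → ZMod p}

theorem mono (h : QF p G K χ β) (hG : G' ≤ G) : QF p G' K χ β :=
  ⟨h.odd, fun y hy w hw => h.mul y (hG hy) w (hG hw),
    fun y hy y' hy' w hw => h.add y (hG hy) y' (hG hy') w (hG hw),
    fun y hy w hw => h.sym y (hG hy) w (hG hw), fun y hy => h.an y (hG hy)⟩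

theorem bpow (h : QF p G K χ β) (hy : y ∈ G) (hw : w ∈ G) (n : ℕ) : β (y ^ n) w = n * β y w := by
  induction n with
  | zero =>
    have := h.add 1 G.one_mem 1 G.one_mem w hw
    rw [mul_one] at this
    simpa using this
  | succ n ih => rw [pow_succ, h.add _ (G.pow_mem hy n) y hy w hw, ih]; push_cast; ring

theorem cpow (h : QF p G K χ β) (hy : y ∈ G) (n : ℕ) :
    2 * χ (y ^ n) = 2 * n * χ y + n * (n - 1) * β y y := by
  induction n with
  | zero =>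
    have h1 := h.mul 1 G.one_mem 1 G.one_mem
    have h2 := h.bpow G.one_mem G.one_mem 0
    rw [pow_zero] at h2
    rw [mul_one, h2] at h1
    simp only [pow_zero, Nat.cast_zero] at h1 ⊢
    linear_combination -2 * h1
  | succ n ih =>
    rw [pow_succ, h.mul _ (G.pow_mem hy n) y hy, h.bpow hy hy]
    push_cast
    linear_combination ih

theorem two (h : QF p G K χ β) : (2 : ZMod p) ≠ 0 := fun e => neg_one_ne h.odd (by
  push_cast; linear_combination -e)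

theorem lin (h : QF p G K χ β) (hy : y ∈ G) (hyK : y ∉ K) (h0 : β y y = 0) (c : ZMod p) :
    ∃ n : ℕ, χ (y ^ n) = c := by
  have h1 : χ y ≠ 0 := fun e => hyK (h.an y hy e)
  refine ⟨(c / χ y).val, mul_left_cancel₀ h.two ?_⟩
  rw [h.cpow hy, h0, ZMod.natCast_zmod_val]
  field_simp
  ring

theorem iso (h : QF p G K χ β) (hy : y ∈ G) (hyK : y ∉ K) (h0 : β y y = 0) (hw : w ∈ G)
    (h1 : β y w = 0) : ∃ n : ℕ, y ^ n * w ∈ K := by
  obtain ⟨n, hn⟩ := h.lin hy hyK h0 (-χ w)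
  refine ⟨n, h.an _ (G.mul_mem (G.pow_mem hy n) hw) ?_⟩
  rw [h.mul _ (G.pow_mem hy n) w hw, hn, h.bpow hy hw, h1]
  ring

theorem perp (h : QF p G K χ β) (hw : w ∈ G) :
    ∃ G' ≤ G, G'.relIndex G ≤ p ∧ ∀ y ∈ G, y ∈ G' ↔ β y w = 0 := by
  let φ : G →* Multiplicative (ZMod p) := MonoidHom.mk' (fun y => Multiplicative.ofAdd (β y w))
    fun a b => by rw [← ofAdd_add, ← h.add a a.2 b b.2 w hw]; rfl
  refine ⟨φ.ker.map G.subtype, map_subtype_le _, ?_, fun y hy => ?_⟩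
  · rw [relIndex, show (φ.ker.map G.subtype).subgroupOf G = φ.ker from
      comap_map_eq_self_of_injective G.subtype_injective _, index_ker]
    refine (card_le_card_group _).trans ?_
    rw [Nat.card_congr Multiplicative.toAdd, Nat.card_zmod]
  · exact (mem_map_iff_mem G.subtype_injective (x := ⟨y, hy⟩)).trans ofAdd_eq_one

theorem surj (h : QF p G K χ β) (hi : p < K.relIndex G) (c : ZMod p) : ∃ y ∈ G, χ y = c := by
  by_cases H : ∃ y ∈ G, y ∉ K ∧ β y y = 0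
  · obtain ⟨y, hy, h1, h2⟩ := H
    obtain ⟨n, hn⟩ := h.lin hy h1 h2 c
    exact ⟨_, G.pow_mem hy n, hn⟩
  push Not at H
  obtain ⟨y, hy, hyK⟩ := SetLike.not_le_iff_exists.1 fun e : G ≤ K => by
    rw [relIndex_eq_one.2 e] at hi
    exact hi.not_ge hp.out.one_le
  obtain ⟨G', l, i, m⟩ := h.perp hy
  obtain ⟨w, hw, hwK⟩ := SetLike.not_le_iff_exists.1 fun e : G' ≤ K =>
    hi.not_ge ((relIndex_le_of_le_left e (relIndex_pos' _ _).ne').trans i)
  have hw' := l hw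
  obtain ⟨s, t, e⟩ := FiniteField.exists_root_sum_quadratic
    (f := Polynomial.C (β y y) * Polynomial.X ^ 2 + Polynomial.C (2 * χ y - β y y) * Polynomial.X +
      Polynomial.C (-2 * c))
    (g := Polynomial.C (β w w) * Polynomial.X ^ 2 + Polynomial.C (2 * χ w - β w w) * Polynomial.X +
      Polynomial.C 0) (Polynomial.degree_quadratic (H y hy hyK))
    (Polynomial.degree_quadratic (H w hw' hwK))
    (by rw [ZMod.card]; exact Nat.odd_iff.1 (hp.out.odd_of_ne_two h.odd))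
  refine ⟨w ^ t.val * y ^ s.val, G.mul_mem (G.pow_mem hw' _) (G.pow_mem hy _),
    mul_left_cancel₀ h.two ?_⟩
  rw [h.mul _ (G.pow_mem hw' _) _ (G.pow_mem hy _), h.bpow hw' (G.pow_mem hy _),
    h.sym w hw' _ (G.pow_mem hy _), h.bpow hy hw', h.sym y hy w hw', (m w hw').1 hw, mul_add,
    mul_add, h.cpow hw', h.cpow hy, ZMod.natCast_zmod_val, ZMod.natCast_zmod_val]
  simp only [Polynomial.eval_add, Polynomial.eval_mul, Polynomial.eval_C, Polynomial.eval_pow,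
    Polynomial.eval_X] at e
  linear_combination e

theorem idx (h : QF p G K χ β) (hK : K ≤ G) (hn : G ≤ normalizer (K : Set Γ))
    (hp' : ∀ y ∈ G, y ^ p ∈ K) (h0 : ∀ k ∈ K, ∀ w ∈ G, β k w = 0) : K.relIndex G ≤ p ^ 2 := by
  by_contra hi
  have p1 := hp.out.one_lt
  obtain ⟨y, hy, hyK⟩ := SetLike.not_le_iff_exists.1 fun e : G ≤ K => by
    rw [relIndex_eq_one.2 e] at hi
    exact hi (by nlinarith)
  obtain ⟨G', l, i, m⟩ := h.perp hy
  have KG' : K ≤ G' := fun k hk => (m k (hK hk)).2 (h0 k hk y hy)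
  have hi' : p < K.relIndex G' := by
    rw [← relIndex_mul_relIndex _ _ _ KG' l] at hi
    nlinarith
  by_cases H : β y y = 0
  · refine hi'.not_ge (le_trans (relIndex_le_of_le_right (L := K ⊔ zpowers y) (fun w hw => ?_)
      (relIndex_pos' _ _).ne') (relIndex_sup_zpowers (hn hy) hyK (hp' y hy)).le)
    obtain ⟨n, hn⟩ := h.iso hy hyK H (l hw) (h.sym y hy w (l hw) ▸ (m w (l hw)).1 hw)
    simpa using mul_mem (inv_mem (mem_sup_right (S := K) (pow_mem (mem_zpowers y) n)))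
      (mem_sup_left hn)
  · obtain ⟨w, hw, e⟩ := (h.mono l).surj hi' (-χ y)
    have := KG' (h.an _ (G.mul_mem (l hw) hy) (by
      rw [h.mul w (l hw) y hy, e, (m w (l hw)).1 hw]; ring))
    exact H ((m y hy).1 ((G'.mul_mem_cancel_left hw).1 this))

end QF

namespace XQ

/-- Commutators with `u` are orthogonal to the fixed points of `u` on `Q / Z`. -/
theorem perp (h : XQ p S Q Z) (hu : u ∈ S) (hr : r ∈ Q) (hc : c ∈ Q) (huc : ⁅u, c⁆ ∈ Z) :
    Commute ⁅u, r⁆ c := by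
  have h1 := h.cm hr hc
  have h2 : ⁅u⁻¹, c⁆ ∈ Z := by simpa using cm_zpow_left (h.SnZ hu) huc (-1)
  have e1 : ⁅u * r * u⁻¹, c⁆ = ⁅r, c⁆ := by
    rw [show ⁅u * r * u⁻¹, c⁆ = u * (r * ⁅u⁻¹, c⁆ * r⁻¹ * ⁅r, c⁆ * ⁅u⁻¹, c⁆⁻¹) * u⁻¹ by group,
      (h.com (h.QS hr) h2).eq, mul_inv_cancel_right, (h.com (h.ZS h2) h1).eq, mul_inv_cancel_right,
      (h.com hu h1).eq, mul_inv_cancel_right]
  have e2 : ⁅r⁻¹, c⁆ = ⁅r, c⁆⁻¹ := by
    rw [show ⁅r⁻¹, c⁆ = r⁻¹ * ⁅r, c⁆⁻¹ * r by group,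
      (h.com (S.inv_mem (h.QS hr)) (Z.inv_mem h1)).eq, inv_mul_cancel_right]
  rw [← commutatorElement_eq_one_iff_commute, commutatorElement_def u r, cm_mul_left, e1, e2,
    (h.com (h.QS (conj_mem (h.SQ hu) hr)) (Z.inv_mem h1)).eq, mul_inv_cancel_right, inv_mul_cancel]

theorem im_perp (h : XQ p S Q Z) (hu : u ∈ S) (hy : y ∈ Q)
    (hc : ∀ c ∈ Q, ⁅u, c⁆ ∈ Z → Commute y c) : ∃ r ∈ Q, ⁅u, r⁆⁻¹ * y ∈ Z := by
  have hq : ∀ r ∈ Q, ⁅u, r⁆ ∈ Q := fun r hr => h.cmQ hu (h.QS hr)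
  have nq := h.QS.trans h.SnZ
  let I : Subgroup Γ :=
    { carrier := {y | ∃ r ∈ Q, ⁅u, r⁆⁻¹ * y ∈ Z}
      one_mem' := ⟨1, Q.one_mem, by simp⟩
      mul_mem' := by
        rintro a b ⟨r, hr, ha⟩ ⟨s, hs, hb⟩
        refine ⟨r * s, Q.mul_mem hr hs, ?_⟩
        have := Z.mul_mem (Z.mul_mem (h.cm hr (Q.inv_mem (hq s hs)))
          (conj_mem' (nq (hq s hs)) ha)) hb
        convert this using 1
        group
      inv_mem' := by
        rintro a ⟨r, hr, ha⟩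
        refine ⟨r⁻¹, Q.inv_mem hr, ?_⟩
        have := Z.mul_mem (h.cm (Q.inv_mem hr) (hq r hr)) (conj_mem (nq (hq r hr)) (Z.inv_mem ha))
        convert this using 1
        group }
  have ZI : Z ≤ I := fun z hz => ⟨1, Q.one_mem, by simpa using hz⟩
  have ZC : Z ≤ Q ⊓ cmSub u Z := fun z hz =>
    ⟨h.ZQ hz, le_normalizer hz, cm_mem_right (h.SnZ hu) hz⟩
  have IC : I ≤ Q ⊓ centralizer ((Q ⊓ cmSub u Z : Subgroup Γ) : Set Γ) := by
    rintro a ⟨r, hr, ha⟩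
    rw [show a = ⁅u, r⁆ * (⁅u, r⁆⁻¹ * a) by group]
    exact mul_mem ⟨hq r hr, fun c hc => (h.perp hu hr hc.1 hc.2.2).symm⟩
      ⟨h.ZQ ha, fun c hc => h.com (h.QS hc.1) ha⟩
  have h1 := relIndex_cmSub_le (u := u) (X₁ := I) nq fun r hr =>
    ⟨r, hr, by rw [inv_mul_cancel]; exact Z.one_mem⟩
  have h2 := PGroup.relIndex_centralizer_eq_of_commutator_le_cyclic (A := Q) (B := Q ⊓ cmSub u Z)
    (isCyclic_of_prime_card h.cardZ) (h.cQ ▸ commutator_mono le_rfl inf_le_left)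
    (h.eZ.ge.trans inf_le_right) ((h.eZ.ge.trans inf_le_right).trans (centralizer_le inf_le_left))
  have h3 : (centralizer (Q : Set Γ)).relIndex (Q ⊓ cmSub u Z) = Z.relIndex (Q ⊓ cmSub u Z) := by
    rw [← h.eZ, ← inf_relIndex_left, ← inf_relIndex_left _ (Q ⊓ _)]
    congr 1
    rw [← inf_assoc, inf_right_comm Q _ Q, inf_idem]
  rw [h3, ← inf_relIndex_left] at h2
  rw [← inf_relIndex_left] at h1
  have h4 := relIndex_mul_relIndex _ _ _ ZC inf_le_left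
  have h5 := relIndex_mul_relIndex _ _ _ (ZI.trans IC) inf_le_left
  have h6 := relIndex_mul_relIndex _ _ _ ZI IC
  rw [h2, ← h4, mul_comm, Nat.mul_right_inj (relIndex_pos' _ _).ne'] at h5
  rw [h5] at h6
  have h7 := relIndex_pos' I (Q ⊓ centralizer ((Q ⊓ cmSub u Z : Subgroup Γ) : Set Γ))
  have h8 := relIndex_pos' Z I
  have h9 : Q ⊓ centralizer ((Q ⊓ cmSub u Z : Subgroup Γ) : Set Γ) ≤ I :=
    relIndex_eq_one.1 (by nlinarith)
  exact h9 ⟨hy, fun c hc' => (hc c hc'.1 hc'.2.2).symm⟩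

end XQ

end CfsgLib.Fus3
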