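import Mathlib
import Cfsg.Agent.Lib.Fusion.RankTwo
import Cfsg.Agent.Lib.PGroup.Extraspecial

/-! A unipotent isometry with two Jordan blocks of a symplectic space of dimension four. -/

set_option autoImplicit false

namespace CfsgLib.Fus3

open Subgroup Cfsg CfsgLib.Fusion
open scoped commutatorElement

theorem a3_lin {F V : Type*} [Field F] [AddCommGroup V] [Module F V] [FiniteDimensional F V]
    (h2 : (2 : F) ≠ 0) (f : V →ₗ[F] V →ₗ[F] F) (alt : ∀ v, f v v = 0)
    (nd : ∀ v, (∀ u, f v u = 0) → v = 0) (n : V →ₗ[F] V) (hn : IsNilpotent n)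
    (inv : ∀ u v, f (u - n u) (v - n v) = f u v)
    (hr : Module.finrank F (LinearMap.range n) = 2) :
    (∀ v, n (n v) = 0) ∧ (∀ u v, f (n u) (n v) = 0) ∧ ∃ v₁ v₂, f v₁ v₂ = 0 ∧ f v₁ (n v₁) ≠ 0 ∧
      f v₁ (n v₂) = 0 ∧ f v₂ (n v₁) = 0 ∧ f v₂ (n v₂) ≠ 0 := by
  have skew : ∀ u v, f u v = -f v u := fun u v => by
    have := alt (u + v)
    simp only [map_add, LinearMap.add_apply, alt] at this
    linear_combination this
  have dep3 : ∀ a b c : V, ∃ r s t : F, ¬ (r = 0 ∧ s = 0 ∧ t = 0) ∧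
      r • n a + s • n b + t • n c = 0 := by
    intro a b c
    by_contra hc
    push Not at hc
    have : LinearIndependent F (![⟨n a, a, rfl⟩, ⟨n b, b, rfl⟩, ⟨n c, c, rfl⟩] :
        Fin 3 → LinearMap.range n) := by
      rw [Fintype.linearIndependent_iff]
      intro g hg
      rw [Fin.sum_univ_three] at hg
      have h1 : g 0 • n a + g 1 • n b + g 2 • n c = 0 := congrArg Subtype.val hg
      by_contra hne
      refine hc (g 0) (g 1) (g 2) (fun e0 e1 e2 => hne fun i => ?_) h1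
      fin_cases i <;> assumption
    have := this.fintype_card_le_finrank
    rw [hr, Fintype.card_fin] at this
    omega
  have nsp : ∀ a : V, ∃ v, n v ∉ Submodule.span F {a} := by
    intro a
    by_contra hc
    push Not at hc
    have h1 : LinearMap.range n ≤ Submodule.span F {a} := by rintro _ ⟨v, rfl⟩; exact hc v
    have h3 := Submodule.finrank_mono h1
    have h4 := finrank_span_le_card (R := F) ({a} : Set V)
    simp only [Set.toFinset_card, Fintype.card_unique] at h4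
    omega
  obtain ⟨v0, hv0⟩ : ∃ v, n v ≠ 0 := (nsp 0).imp fun v hv e => hv (by rw [e]; exact zero_mem _)
  obtain ⟨u, hu, hu'⟩ : ∃ u, n u ≠ 0 ∧ n (n u) = 0 := by
    by_contra hc
    push Not at hc
    obtain ⟨k, hk⟩ := hn
    have : ∀ j : ℕ, n ((n ^ j) v0) ≠ 0 := by
      intro j
      induction j with
      | zero => exact hv0
      | succ j ih => rw [pow_succ']; exact hc _ ih
    exact this k (by rw [hk]; simp)
  have hker : ∀ y, n y = 0 → ∀ x, f y (n x) = 0 := fun y hy x => by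
    have := inv y x
    rw [hy, sub_zero, map_sub] at this
    linear_combination -this
  have iso : ∀ a b, f (n a) (n b) = 0 := by
    intro a b
    by_contra hab
    obtain ⟨r, s, t, hne, e⟩ := dep3 u a b
    have e1 := congrArg (fun v => f v (n a)) e
    have e2 := congrArg (fun v => f v (n b)) e
    simp only [map_add, map_smul, LinearMap.add_apply, LinearMap.smul_apply, hker _ hu', alt,
      map_zero, LinearMap.zero_apply, smul_eq_mul, skew (n b) (n a)] at e1 e2
    have ht : t = 0 := by simpa [hab] using e1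
    have hs : s = 0 := by simpa [hab] using e2
    subst ht hs
    exact hne ⟨by simpa [hu] using e, rfl, rfl⟩
  have sym : ∀ a b, f a (n b) = f b (n a) := fun a b => by
    have := inv a b
    simp only [map_sub, LinearMap.sub_apply, iso] at this
    rw [skew b]
    linear_combination -this
  have nn : ∀ v, n (n v) = 0 := fun v => nd _ fun x => by rw [skew, sym, iso, neg_zero]
  refine ⟨nn, iso, ?_⟩
  obtain ⟨v₁, h1⟩ : ∃ v, f v (n v) ≠ 0 := by
    by_contra hc
    push Not at hc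
    refine hv0 (nd _ fun x => ?_)
    have := hc (x + v0)
    simp only [map_add, LinearMap.add_apply, hc, sym v0 x] at this
    rw [skew, neg_eq_zero]
    exact (mul_eq_zero.1 (by linear_combination this : 2 * f x (n v0) = 0)).resolve_left h2
  obtain ⟨v, hv⟩ := nsp (n v₁)
  obtain ⟨w, hw, hw1⟩ : ∃ w, n w ∉ Submodule.span F {n v₁} ∧ f v₁ (n w) = 0 := by
    refine ⟨v - (f v₁ (n v) / f v₁ (n v₁)) • v₁, fun h => hv ?_, ?_⟩
    · rw [map_sub, map_smul] at h
      exact (Submodule.sub_mem_iff_left _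
        (Submodule.smul_mem _ _ (Submodule.mem_span_singleton_self _))).1 h
    · simp only [map_sub, map_smul, smul_eq_mul]
      field_simp
      ring
  have hww : f w (n w) ≠ 0 := by
    intro h0
    refine hw ((nd (n w) fun x => ?_) ▸ zero_mem _)
    obtain ⟨r, s, t, hne, e⟩ := dep3 x v₁ w
    have e1 := congrArg (f w) e
    simp only [map_add, map_smul, h0, sym w v₁, hw1, smul_eq_mul, mul_zero, add_zero, map_zero] at e1
    rw [skew, sym, neg_eq_zero]
    refine (mul_eq_zero.1 e1).resolve_left fun hr0 => ?_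
    subst hr0
    by_cases ht : t = 0
    · subst ht
      have : n v₁ ≠ 0 := fun e => h1 (by rw [e, map_zero])
      exact hne ⟨rfl, by simpa [this] using e, rfl⟩
    · refine hw (Submodule.mem_span_singleton.2 ⟨-s / t, ?_⟩)
      rw [zero_smul, zero_add] at e
      rw [← one_smul F (n w), ← inv_mul_cancel₀ ht, mul_smul, eq_neg_of_add_eq_zero_right e]
      rw [div_eq_inv_mul, mul_smul, neg_smul]
  refine ⟨v₁, w - (f v₁ w / f v₁ (n v₁)) • n v₁, ?_, h1, ?_, ?_, ?_⟩
  · simp only [map_sub, map_smul, smul_eq_mul]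
    field_simp
    ring
  · simp [nn, hw1]
  · simp [iso, sym w v₁, hw1]
  · simpa [nn, iso] using hww

theorem a3_add {p : ℕ} [hp : Fact p.Prime] (h2 : p ≠ 2) {V : Type*} [AddCommGroup V]
    [Module (ZMod p) V] [Finite V] (f : V →+ V →+ ZMod p) (alt : ∀ v, f v v = 0)
    (nd : ∀ v, (∀ u, f v u = 0) → v = 0) (g : V →+ V) (hg : ∀ v, g^[p] v = v)
    (inv : ∀ u v, f (g u) (g v) = f u v) (hk : (g.eqLocus (AddMonoidHom.id V)).index = p ^ 2) :
    (∀ v, g (v - g v) = v - g v) ∧ (∀ u v, f (u - g u) (v - g v) = 0) ∧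
      ∃ v₁ v₂, f v₁ v₂ = 0 ∧ f v₁ (v₁ - g v₁) ≠ 0 ∧
      f v₁ (v₂ - g v₂) = 0 ∧ f v₂ (v₁ - g v₁) = 0 ∧ f v₂ (v₂ - g v₂) ≠ 0 := by
  have h2' : (2 : ZMod p) ≠ 0 := fun h0 => h2 ((Nat.prime_dvd_prime_iff_eq hp.out Nat.prime_two).1
    ((ZMod.natCast_eq_zero_iff 2 p).1 (by exact_mod_cast h0)))
  let σ : Module.End (ZMod p) V := g.toZModLinearMap p
  let f' : V →ₗ[ZMod p] V →ₗ[ZMod p] ZMod p :=
    (AddMonoidHom.mk' (fun v => (f v).toZModLinearMap p) fun a b => by
      ext v; simp).toZModLinearMap p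
  have hσ : σ ^ p = 1 := LinearMap.ext fun v => (Module.End.pow_apply σ p v).trans (hg v)
  have hnil : IsNilpotent (1 - σ) := by
    rcases subsingleton_or_nontrivial V with h | h
    · exact ⟨0, Subsingleton.elim _ _⟩
    have : CharP (Module.End (ZMod p) V) p := charP_of_injective_algebraMap' (ZMod p) p
    exact ⟨p, by rw [sub_pow_char_of_commute _ (Commute.one_left σ), hσ, one_pow, sub_self]⟩
  have hr : Module.finrank (ZMod p) (LinearMap.range (1 - σ)) = 2 := by
    have h1 := Module.natCard_eq_pow_finrank (K := ZMod p) (V := LinearMap.range (1 - σ))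
    have h3 : g.eqLocus (AddMonoidHom.id V) = (1 - σ).toAddMonoidHom.ker := by
      ext v
      change g v = v ↔ v - g v = 0
      rw [sub_eq_zero, eq_comm]
    rw [h3, AddSubgroup.index_ker] at hk
    rw [Nat.card_zmod] at h1
    exact Nat.pow_right_injective hp.out.one_lt (h1.symm.trans hk)
  obtain ⟨e1, e2, e3⟩ := a3_lin h2' f' alt nd (1 - σ) hnil (fun u v => by
    change f (u - (u - g u)) (v - (v - g v)) = f u v
    rw [sub_sub_cancel, sub_sub_cancel, inv]) hr
  exact ⟨fun v => (sub_eq_zero.1 (e1 v)).symm, e2, e3⟩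

theorem a3_pair {p : ℕ} [hp : Fact p.Prime] (h2 : p ≠ 2) {E : Type*} [Group E] [Finite E]
    (hE : IsExtraspecial p E) (τ : E ≃* E) (hτ : ∀ x, τ^[p] x = x)
    (split : ∀ y, y * (τ y)⁻¹ ∈ center E → τ y = y)
    (hk : (τ.toMonoidHom.eqLocus (MonoidHom.id E)).index = p ^ 2) :
    ∃ (z x₁ x₂ : E) (b₁ b₂ : ZMod p), orderOf z = p ∧ z ∈ center E ∧ τ z = z ∧ b₁ ≠ 0 ∧ b₂ ≠ 0 ∧
      ⁅x₁, x₂⁆ = 1 ∧ (∀ x, τ (x * (τ x)⁻¹) = x * (τ x)⁻¹) ∧
      ⁅x₁ * (τ x₁)⁻¹, x₂ * (τ x₂)⁻¹⁆ = 1 ∧
      ⁅x₁, x₁ * (τ x₁)⁻¹⁆ = zpw z b₁ ∧ ⁅x₁, x₂ * (τ x₂)⁻¹⁆ = 1 ∧ ⁅x₂, x₁ * (τ x₁)⁻¹⁆ = 1 ∧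
      ⁅x₂, x₂ * (τ x₂)⁻¹⁆ = zpw z b₂ := by
  obtain ⟨z, hz, hZ⟩ := PGroup.IsExtraspecial.exists_center_eq_zpowers hE
  have zp : z ^ p = 1 := hz ▸ pow_orderOf_eq_one z
  have zc : z ∈ center E := hZ ▸ mem_zpowers z
  have τc : ∀ y ∈ center E, τ y ∈ center E := fun y hy => mem_center_iff.2 fun g => by
    obtain ⟨g, rfl⟩ := τ.surjective g
    rw [← map_mul, ← map_mul, mem_center_iff.1 hy]
  have τz : τ z = z := split z (mul_mem zc (inv_mem (τc z zc)))
  have cm := PGroup.IsExtraspecial.commutatorElement_mem_center hE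
  choose lg hlg using fun x y : E => (mem_zpowers_iff_zpw zp).1 (hZ ▸ cm x y)
  have cc : ∀ a x y : E, Commute a ⁅x, y⁆ := fun a x y => mem_center_iff.1 (cm x y) a
  have lgl : ∀ x x' y, lg (x * x') y = lg x y + lg x' y := fun x x' y => zpw_inj hz (by
    rw [zpw_add zp, hlg, hlg, hlg, Core.commutatorElement_mul_left_of_commute (cc _ _ _), (cc _ _ _).eq])
  have lgr : ∀ x y y', lg x (y * y') = lg x y + lg x y' := fun x y y' => zpw_inj hz (by
    rw [zpw_add zp, hlg, hlg, hlg, Core.commutatorElement_mul_right_of_commute (cc _ _ _)])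
  have lg0 : ∀ x y, lg x y = 0 ↔ ⁅x, y⁆ = 1 := fun x y => by rw [← hlg, zpw_eq_one_iff hz]
  letI : CommGroup (E ⧸ center E) := { (inferInstance : Group (E ⧸ center E)) with
    mul_comm := fun a b => by
      obtain ⟨a, rfl⟩ := QuotientGroup.mk_surjective a
      obtain ⟨b, rfl⟩ := QuotientGroup.mk_surjective b
      rw [← commutatorElement_eq_one_iff_mul_comm, ← QuotientGroup.mk'_apply,
        ← QuotientGroup.mk'_apply, ← map_commutatorElement]
      exact (QuotientGroup.eq_one_iff _).2 (cm a b) }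
  let π : E → Additive (E ⧸ center E) := fun x => Additive.ofMul (x : E ⧸ center E)
  have πs : Function.Surjective π := fun v => QuotientGroup.mk_surjective v.toMul
  have π0 : ∀ x, π x = 0 ↔ x ∈ center E := fun x => QuotientGroup.eq_one_iff x
  have πm : ∀ x y, π (x * y) = π x + π y := fun _ _ => rfl
  have πd : ∀ x y, π (x * y⁻¹) = π x - π y := fun x y => by
    rw [eq_sub_iff_add_eq, ← πm, inv_mul_cancel_right]
  letI : Module (ZMod p) (Additive (E ⧸ center E)) := AddCommGroup.zmodModule fun v => by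
    obtain ⟨x, rfl⟩ := πs v
    exact (π0 (x ^ p)).2 (PGroup.IsExtraspecial.pow_mem_center hE x)
  obtain ⟨lq, hlq⟩ : ∃ lq : Additive (E ⧸ center E) → Additive (E ⧸ center E) → ZMod p,
      ∀ x y, lq (π x) (π y) = lg x y := by
    refine ⟨fun u v => lg u.toMul.out v.toMul.out, fun x y => ?_⟩
    obtain ⟨a, ha⟩ := QuotientGroup.mk_out_eq_mul (center E) x
    obtain ⟨b, hb⟩ := QuotientGroup.mk_out_eq_mul (center E) y
    change lg (x : E ⧸ center E).out (y : E ⧸ center E).out = _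
    have e1 : ∀ t, lg a t = 0 := fun t => (lg0 _ _).2
      (commutatorElement_eq_one_iff_mul_comm.2 (mem_center_iff.1 a.2 t).symm)
    have e2 : ∀ t, lg t b = 0 := fun t => (lg0 _ _).2
      (commutatorElement_eq_one_iff_mul_comm.2 (mem_center_iff.1 b.2 t))
    rw [ha, hb, lgl, lgr, e1, e2, add_zero, add_zero]
  let f : Additive (E ⧸ center E) →+ Additive (E ⧸ center E) →+ ZMod p :=
    AddMonoidHom.mk' (fun u => AddMonoidHom.mk' (lq u) fun v v' => by
      obtain ⟨x, rfl⟩ := πs u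
      obtain ⟨y, rfl⟩ := πs v
      obtain ⟨y', rfl⟩ := πs v'
      rw [← πm, hlq, hlq, hlq, lgr]) fun u u' => AddMonoidHom.ext fun v => by
      obtain ⟨x, rfl⟩ := πs u
      obtain ⟨x', rfl⟩ := πs u'
      obtain ⟨y, rfl⟩ := πs v
      change lq _ _ = lq _ _ + lq _ _
      rw [← πm, hlq, hlq, hlq, lgl]
  have hf : ∀ x y, f (π x) (π y) = lg x y := hlq
  let g : Additive (E ⧸ center E) →+ Additive (E ⧸ center E) :=
    MonoidHom.toAdditive (QuotientGroup.map _ _ τ.toMonoidHom τc)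
  have hg : ∀ x, g (π x) = π (τ x) := fun _ => rfl
  have hc : ∀ x, π x - g (π x) = π (x * (τ x)⁻¹) := fun x => by rw [hg, πd]
  obtain ⟨e1, e2, v₁, v₂, e3, e4, e5, e6, e7⟩ := a3_add h2 f (fun v => by
      obtain ⟨x, rfl⟩ := πs v
      rw [hf, lg0, commutatorElement_self]) (fun v hv => by
      obtain ⟨x, rfl⟩ := πs v
      refine (π0 x).2 (mem_center_iff.2 fun y => ?_)
      exact (commutatorElement_eq_one_iff_mul_comm.1 ((lg0 _ _).1 ((hf x y).symm.trans (hv _)))).symm)
    g (fun v => by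
      obtain ⟨x, rfl⟩ := πs v
      rw [Function.Semiconj.iterate_right (f := π) (ga := τ) (gb := g) (fun x => (hg x).symm) p x |>.symm, hτ])
    (fun u v => by
      obtain ⟨x, rfl⟩ := πs u
      obtain ⟨y, rfl⟩ := πs v
      rw [hg, hg, hf, hf]
      refine zpw_inj hz ?_
      rw [hlg, ← map_commutatorElement, ← hlg, map_zpw, τz])
    (by
      rw [← hk]
      have : τ.toMonoidHom.eqLocus (MonoidHom.id E) =
          (AddSubgroup.toSubgroup' (g.eqLocus (AddMonoidHom.id _))).comap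
            (QuotientGroup.mk' (center E)) := by
        ext x
        change τ x = x ↔ g (π x) = π x
        refine ⟨fun h => by rw [hg, h], fun h => split x ((π0 _).1 ?_)⟩
        rw [← hc, h, sub_self]
      rw [this, index_comap_of_surjective _ (QuotientGroup.mk'_surjective _)]
      rfl)
  obtain ⟨x₁, rfl⟩ := πs v₁
  obtain ⟨x₂, rfl⟩ := πs v₂
  have e2' := e2 (π x₁) (π x₂)
  rw [hc, hc, hf] at e2'
  rw [hc, hf] at e4 e5 e6 e7
  rw [hf] at e3
  refine ⟨z, x₁, x₂, _, _, hz, zc, τz, e4, e7, (lg0 _ _).1 e3, fun x => split _ ((π0 _).1 ?_),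
    (lg0 _ _).1 e2', (hlg _ _).symm, (lg0 _ _).1 e5, (lg0 _ _).1 e6, (hlg _ _).symm⟩
  have := e1 (π x)
  rw [hc] at this
  rw [← hc, this, sub_self]

end CfsgLib.Fus3
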