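import Mathlib
import Cfsg.Prelude.Def_Classical
import Cfsg.Agent.Lib.Fus3.Defs
import Cfsg.Agent.Lib.Fus3.XA3a
import Cfsg.Agent.Lib.Unitary.Order
import Cfsg.Agent.Lib.Classical.SLCard
import Cfsg.Agent.Lib.PGroup.Basic

/-! The case of two Jordan blocks: a Sylow subgroup of `SL(4, p)` or `SU(4, p)`. -/

set_option autoImplicit false

namespace CfsgLib.Fus3

open Subgroup Cfsg CfsgLib.Fusion
open scoped commutatorElement

section Model

variable {F : Type*} [Field F] (δ : F)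

def a3f (s : F × F) (v : F × F × F × F) : F × F × F × F :=
  (v.1, v.2.1 + v.1 * s.1, v.2.2.1 + v.1 * s.2,
    v.2.2.2 + 2 * (s.1 * v.2.1 - δ * s.2 * v.2.2.1) + v.1 * (s.1 ^ 2 - δ * s.2 ^ 2))

theorem a3f_add (s t : F × F) (v : F × F × F × F) : a3f δ (s + t) v = a3f δ s (a3f δ t v) := by
  ext <;> simp only [a3f, Prod.fst_add, Prod.snd_add] <;> ring

theorem a3f_zero (v : F × F × F × F) : a3f δ 0 v = v := by
  ext <;> simp [a3f]

def a3act (s : F × F) : Multiplicative (F × F × F × F) ≃* Multiplicative (F × F × F × F) :=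
  AddEquiv.toMultiplicative
    { toFun := a3f δ s
      invFun := a3f δ (-s)
      left_inv := fun v => by rw [← a3f_add, neg_add_cancel, a3f_zero]
      right_inv := fun v => by rw [← a3f_add, add_neg_cancel, a3f_zero]
      map_add' := fun v w => by
        ext <;> simp only [a3f, Prod.fst_add, Prod.snd_add] <;> ring }

def a3φ : Multiplicative (F × F) →* MulAut (Multiplicative (F × F × F × F)) :=
  MonoidHom.mk' (fun k => a3act δ k.toAdd) fun k l => MulEquiv.ext fun v =>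
    congrArg Multiplicative.ofAdd (a3f_add δ k.toAdd l.toAdd v.toAdd)

/-- The model of the Sylow subgroup. -/
abbrev A3D := Multiplicative (F × F × F × F) ⋊[a3φ δ] Multiplicative (F × F)

variable {δ}

theorem a3_injective (h2 : (2 : F) ≠ 0) (hδ : δ ≠ 0) {H : Type*} [Group H]
    (L : Multiplicative (F × F × F × F) →* H) (b : Multiplicative (F × F) →* H)
    (hc : ∀ k, L.comp (a3φ δ k).toMonoidHom = (MulAut.conj (b k)).toMonoidHom.comp L)
    (hz : ∀ c, L (Multiplicative.ofAdd (0, 0, 0, c)) = 1 → c = 0) :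
    Function.Injective (SemidirectProduct.lift L b hc) := by
  have hc' : ∀ s v, L (Multiplicative.ofAdd (a3f δ s v)) =
      b (Multiplicative.ofAdd s) * L (Multiplicative.ofAdd v) * (b (Multiplicative.ofAdd s))⁻¹ :=
    fun s v => DFunLike.congr_fun (hc (Multiplicative.ofAdd s)) (Multiplicative.ofAdd v)
  have hd : ∀ v w, L (Multiplicative.ofAdd v) = L (Multiplicative.ofAdd w) →
      L (Multiplicative.ofAdd (v - w)) = 1 := fun v w e => by
    rw [ofAdd_sub, map_div, e, div_self']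
  have h1 : ∀ s v, L (Multiplicative.ofAdd v) = 1 → L (Multiplicative.ofAdd (a3f δ s v - v)) = 1 :=
    fun s v e => hd _ _ (by rw [hc', e, mul_one, mul_inv_cancel])
  rw [injective_iff_map_eq_one]
  rintro ⟨v, k⟩ h
  obtain ⟨⟨a, y₁, y₂, c⟩, rfl⟩ := Multiplicative.ofAdd.surjective v
  obtain ⟨⟨s₁, s₂⟩, rfl⟩ := Multiplicative.ofAdd.surjective k
  have h3 : L _ * b _ = 1 := h
  have h4 : ∀ v, L (Multiplicative.ofAdd (a3f δ (s₁, s₂) v - v)) = 1 := fun v => hd _ _ (by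
    rw [hc', eq_inv_of_mul_eq_one_right h3, ← map_inv L, ← map_inv L, ← map_mul L, ← map_mul L,
      mul_comm _ (Multiplicative.ofAdd v), mul_inv_cancel_right])
  have e1 : s₁ = 0 := by
    have := h4 (0, 1, 0, 0)
    simp only [a3f, Prod.mk_sub_mk, zero_mul, add_zero, sub_self] at this
    simpa [h2] using hz _ this
  have e2 : s₂ = 0 := by
    have := h4 (0, 0, 1, 0)
    simp only [a3f, Prod.mk_sub_mk, zero_mul, add_zero, sub_self] at this
    simpa [h2, hδ] using hz _ this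
  subst e1 e2
  rw [Prod.mk_zero_zero, ofAdd_zero, map_one, mul_one] at h3
  have e3 : a = 0 := by
    have := h1 (1, 0) _ (h1 (1, 0) _ h3)
    simp only [a3f, Prod.mk_sub_mk, mul_zero, zero_mul, add_zero, sub_self] at this
    simpa [h2] using hz _ this
  subst e3
  have e4 : y₁ = 0 := by
    have := h1 (1, 0) _ h3
    simp only [a3f, Prod.mk_sub_mk, mul_zero, zero_mul, add_zero, sub_self] at this
    simpa [h2] using hz _ this
  have e5 : y₂ = 0 := by
    have := h1 (0, 1) _ h3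
    simp only [a3f, Prod.mk_sub_mk, mul_zero, zero_mul, add_zero, sub_self] at this
    simpa [h2, hδ] using hz _ this
  subst e4 e5
  rw [hz c h3]
  rfl

variable {K : Type*} [Field K] (ι : F →+* K) (θ : K)

def a3Nm (v : F × F × F × F) : Matrix (Fin 4) (Fin 4) K :=
  !![1, 0, ι v.2.2.2, ι v.2.1 + θ * ι v.2.2.1; 0, 1, ι v.2.1 - θ * ι v.2.2.1, ι v.1;
    0, 0, 1, 0; 0, 0, 0, 1]

def a3Km (s : F × F) : Matrix (Fin 4) (Fin 4) K :=
  !![1, ι s.1 + θ * ι s.2, 0, 0; 0, 1, 0, 0; 0, 0, 1, 0; 0, 0, -(ι s.1 - θ * ι s.2), 1]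

theorem a3Nm_add (v w : F × F × F × F) : a3Nm ι θ (v + w) = a3Nm ι θ v * a3Nm ι θ w := by
  ext i j
  fin_cases i <;> fin_cases j <;> simp [a3Nm, Matrix.mul_apply, Fin.sum_univ_four] <;> ring

theorem a3Km_add (v w : F × F) : a3Km ι θ (v + w) = a3Km ι θ v * a3Km ι θ w := by
  ext i j
  fin_cases i <;> fin_cases j <;> simp [a3Km, Matrix.mul_apply, Fin.sum_univ_four] <;> ring

def a3N : Multiplicative (F × F × F × F) →* Matrix.SpecialLinearGroup (Fin 4) K :=
  MonoidHom.mk' (fun v => ⟨a3Nm ι θ v.toAdd, by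
      simp [a3Nm, Matrix.det_succ_row_zero, Fin.sum_univ_succ]⟩)
    fun v w => Subtype.ext (a3Nm_add ι θ v.toAdd w.toAdd)

def a3K : Multiplicative (F × F) →* Matrix.SpecialLinearGroup (Fin 4) K :=
  MonoidHom.mk' (fun s => ⟨a3Km ι θ s.toAdd, by
      simp [a3Km, Matrix.det_succ_row_zero, Fin.sum_univ_succ]⟩)
    fun v w => Subtype.ext (a3Km_add ι θ v.toAdd w.toAdd)

variable {ι θ}

theorem a3m_compat (hθ : θ ^ 2 = ι δ) (s : F × F) (v : F × F × F × F) :
    a3Nm ι θ (a3f δ s v) * a3Km ι θ s = a3Km ι θ s * a3Nm ι θ v := by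
  ext i j
  fin_cases i <;> fin_cases j <;>
    simp [a3Nm, a3Km, a3f, Matrix.mul_apply, Fin.sum_univ_four, ← hθ, map_ofNat] <;> ring

theorem a3_compat (hθ : θ ^ 2 = ι δ) (k : Multiplicative (F × F)) :
    (a3N ι θ).comp (a3φ δ k).toMonoidHom = (MulAut.conj (a3K ι θ k)).toMonoidHom.comp (a3N ι θ) := by
  refine MonoidHom.ext fun v => ?_
  change a3N ι θ (Multiplicative.ofAdd (a3f δ k.toAdd v.toAdd)) = a3K ι θ k * a3N ι θ v * (a3K ι θ k)⁻¹
  rw [eq_mul_inv_iff_mul_eq]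
  exact Subtype.ext (a3m_compat hθ _ _)

theorem a3N_inj (c : F) (h : a3N ι θ (Multiplicative.ofAdd (0, 0, 0, c)) = 1) : c = 0 := by
  have : a3Nm ι θ (0, 0, 0, c) 0 2 = (1 : Matrix (Fin 4) (Fin 4) K) 0 2 :=
    congrFun (congrFun (congrArg Subtype.val h) 0) 2
  simpa [a3Nm] using this

end Model

theorem card_A3D {p : ℕ} [Fact p.Prime] (δ : ZMod p) : Nat.card (A3D δ) = p ^ 6 := by
  rw [Nat.card_congr SemidirectProduct.equivProd]
  simp only [Nat.card_prod, Nat.card_congr Multiplicative.toAdd, Nat.card_zmod]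
  ring

theorem a3_sylow {p : ℕ} [hp : Fact p.Prime] {D H : Type*} [Group D] [Group H] [Finite H]
    (hD : Nat.card D = p ^ 6) (ρ : D →* H) (hρ : Function.Injective ρ) {c m : ℕ}
    (h : c * Nat.card H = p ^ 6 * m) (hm : ¬ p ∣ m) :
    ∃ P : Sylow p H, Nonempty (D ≃* (P : Subgroup H)) := by
  have e := MonoidHom.ofInjective hρ
  have hc : Nat.card ρ.range = p ^ 6 := by rw [← Nat.card_congr e.toEquiv, hD]
  refine ⟨(IsPGroup.of_card hc).toSylow fun hd => hm ?_, ⟨e⟩⟩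
  rw [← ρ.range.card_mul_index, hc, mul_left_comm] at h
  rw [← Nat.eq_of_mul_eq_mul_left (pow_pos hp.out.pos 6) h]
  exact hd.mul_left c

theorem two_ne_zmod {p : ℕ} [hp : Fact p.Prime] (h2 : p ≠ 2) : (2 : ZMod p) ≠ 0 := fun h0 =>
  h2 ((Nat.prime_dvd_prime_iff_eq hp.out Nat.prime_two).1
    ((ZMod.natCast_eq_zero_iff 2 p).1 (by exact_mod_cast h0)))

theorem a3_SL {p : ℕ} [hp : Fact p.Prime] (h2 : p ≠ 2) {θ : ZMod p} (hθ : θ * θ ≠ 0) :
    ∃ P : Sylow p (Matrix.SpecialLinearGroup (Fin 4) (ZMod p)),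
      Nonempty (A3D (θ * θ) ≃* (P : Subgroup (Matrix.SpecialLinearGroup (Fin 4) (ZMod p)))) := by
  refine a3_sylow (card_A3D _) _ (a3_injective (two_ne_zmod h2) hθ _ _
    (a3_compat (ι := RingHom.id _) (θ := θ) (sq θ)) a3N_inj) (c := 1)
    (by rw [one_mul, Classical.sl4_card, ZMod.card]) fun hd => ?_
  have h1 := fun i => Classical.sl_not_dvd_pow_sub_one (F := ZMod p) p i
  rw [ZMod.card] at h1
  rcases (Nat.Prime.dvd_mul hp.out).1 hd with hd | hd
  · rcases (Nat.Prime.dvd_mul hp.out).1 hd with hd | hd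
    exacts [h1 1 hd, h1 2 hd]
  · exact h1 3 hd

theorem a3_SU {p : ℕ} [hp : Fact p.Prime] (h2 : p ≠ 2) {δ : ZMod p} (hδ : ¬ IsSquare δ) :
    ∃ (K : Type) (_ : Field K) (_ : Fintype K), Fintype.card K = p ^ 2 ∧
      ∃ P : Sylow p (Cfsg.SU 4 K p), Nonempty (A3D δ ≃* (P : Subgroup (Cfsg.SU 4 K p))) := by
  classical
  let K := GaloisField p 2
  letI : Fintype K := Fintype.ofFinite K
  have hK : Fintype.card K = p ^ 2 := by
    rw [← Nat.card_eq_fintype_card]; exact GaloisField.card p 2 two_ne_zero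
  refine ⟨K, inferInstance, inferInstance, hK, ?_⟩
  let ι : ZMod p →+* K := algebraMap _ _
  have δ0 : δ ≠ 0 := fun e => hδ (e ▸ IsSquare.zero)
  have h2K : (2 : K) ≠ 0 := by
    rw [← map_ofNat ι 2]; exact (map_ne_zero ι).2 (two_ne_zmod h2)
  obtain ⟨r, hr⟩ := hp.out.odd_of_ne_two h2
  have cι : ∀ a, Unitary.conj hK (ι a) = ι a := fun a => by
    rw [Unitary.conj_apply, ← map_pow, ZMod.pow_card]
  obtain ⟨θ, hθ⟩ : IsSquare (ι δ) := by
    rw [FiniteField.isSquare_iff (by rw [ringChar.eq K p]; exact h2) ((map_ne_zero ι).2 δ0), hK,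
      show p ^ 2 / 2 = (p - 1) * (r + 1) by
        rw [hr, show (2 * r + 1) ^ 2 = 2 * (2 * r * (r + 1)) + 1 by ring]; simp; omega,
      pow_mul, ← map_pow, ZMod.pow_card_sub_one_eq_one δ0, map_one, one_pow]
  have θ0 : θ ≠ 0 := fun e => (map_ne_zero ι).2 δ0 (by rw [hθ, e, mul_zero])
  have cθ : Unitary.conj hK θ = -θ := by
    have h1 : Unitary.conj hK θ * Unitary.conj hK θ = θ * θ := by rw [← map_mul, ← hθ, cι]
    refine (mul_self_eq_mul_self_iff.1 h1).resolve_left fun e => hδ ?_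
    rw [ZMod.euler_criterion p δ0]
    apply ι.injective
    rw [map_pow, map_one, hθ, ← sq, ← pow_mul, show 2 * (p / 2) = 2 * r by omega]
    rw [Unitary.conj_apply] at e
    refine mul_right_cancel₀ θ0 ?_
    rw [← pow_succ, ← hr, e, one_mul]
  obtain ⟨ε, hε⟩ := Unitary.exists_norm_eq hK (μ := -1) (by rw [Unitary.neg_pow_q hK, one_pow])
  have hε' : ε * Unitary.conj hK ε = -1 := by rw [Unitary.conj_apply, ← pow_succ', hε]
  obtain ⟨c, hc⟩ : ∃ c : K, 2 * c = -θ := ⟨-θ / 2, mul_div_cancel₀ _ h2K⟩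
  have hc' : 2 * Unitary.conj hK c = θ := by
    have := congrArg (Unitary.conj hK) hc
    rwa [map_mul, map_ofNat, map_neg, cθ, neg_neg] at this
  let J : Matrix (Fin 4) (Fin 4) K := !![0, 0, θ, 0; 0, 0, 0, θ; -θ, 0, 0, 0; 0, -θ, 0, 0]
  let P : Matrix (Fin 4) (Fin 4) K := !![1, 0, c, 0; ε, 0, -(c * ε), 0; 0, 1, 0, c; 0, ε, 0, -(c * ε)]
  have hP : P.transpose * P.map (Unitary.conj hK) = J := by
    ext i j
    fin_cases i <;> fin_cases j <;> simp [P, J, Matrix.mul_apply, Fin.sum_univ_four] <;>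
      first
        | linear_combination hε'
        | linear_combination hc' - Unitary.conj hK c * hε'
        | linear_combination hc - c * hε'
        | linear_combination c * Unitary.conj hK c * hε'
  have hPu : IsUnit P.det := by
    obtain ⟨t, ht⟩ : ∃ t, θ * t = 1 := ⟨_, mul_inv_cancel₀ θ0⟩
    have h1 : J * !![0, 0, -t, 0; 0, 0, 0, -t; t, 0, 0, 0; 0, t, 0, 0] = 1 := by
      ext i j
      fin_cases i <;> fin_cases j <;> simp [J, Matrix.mul_apply, Fin.sum_univ_four] <;>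
        linear_combination ht
    rw [← hP, mul_assoc] at h1
    exact Matrix.det_transpose P ▸ Matrix.isUnit_det_of_right_inverse h1
  let ρ := SemidirectProduct.lift _ _ (a3_compat (ι := ι) (θ := θ) (δ := δ) (by rw [hθ, sq]))
  have hρ : Function.Injective ρ := a3_injective (two_ne_zmod h2) δ0 _ _ _ a3N_inj
  have hJ : ∀ g, (ρ g).1.transpose * J * (ρ g).1.map (Unitary.conj hK) = J := by
    have hN : ∀ v, (a3Nm ι θ v).transpose * J * (a3Nm ι θ v).map (Unitary.conj hK) = J := by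
      intro v
      ext i j
      fin_cases i <;> fin_cases j <;>
        simp [a3Nm, J, Matrix.mul_apply, Fin.sum_univ_four, cι, cθ] <;> ring
    have hB : ∀ v, (a3Km ι θ v).transpose * J * (a3Km ι θ v).map (Unitary.conj hK) = J := by
      intro v
      ext i j
      fin_cases i <;> fin_cases j <;>
        simp [a3Km, J, Matrix.mul_apply, Fin.sum_univ_four, cι, cθ] <;> ring
    rintro ⟨v, k⟩
    change (a3Nm ι θ v.toAdd * a3Km ι θ k.toAdd).transpose * J *
      (a3Nm ι θ v.toAdd * a3Km ι θ k.toAdd).map (Unitary.conj hK) = J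
    rw [Matrix.transpose_mul, Matrix.map_mul, mul_assoc _ _ J, mul_assoc, ← mul_assoc (_ * J), hN,
      ← mul_assoc, hB]
  let ρ' : A3D δ →* Cfsg.SU 4 K p := MonoidHom.mk' (fun g => ⟨⟨P * (ρ g).1 * P⁻¹, by
      rw [Matrix.det_conj ((Matrix.isUnit_iff_isUnit_det P).2 hPu), (ρ g).2]⟩, by
      refine (Unitary.mem_SU_iff hK _).2 ?_
      change (P * (ρ g).1 * P⁻¹).transpose * (P * (ρ g).1 * P⁻¹).map (Unitary.conj hK) = 1
      calc _ = P⁻¹.transpose * ((ρ g).1.transpose * (P.transpose * P.map (Unitary.conj hK)) *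
            (ρ g).1.map (Unitary.conj hK)) * P⁻¹.map (Unitary.conj hK) := by
            simp only [Matrix.transpose_mul, Matrix.map_mul, mul_assoc]
        _ = (P * P⁻¹).transpose * (P * P⁻¹).map (Unitary.conj hK) := by
            rw [hP, hJ, ← hP]
            simp only [Matrix.transpose_mul, Matrix.map_mul, mul_assoc]
        _ = 1 := by rw [Matrix.mul_nonsing_inv P hPu]; simp⟩)
    fun g g' => Subtype.ext (Subtype.ext (by
      change P * (ρ (g * g')).1 * P⁻¹ = P * (ρ g).1 * P⁻¹ * (P * (ρ g').1 * P⁻¹)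
      rw [map_mul, Matrix.SpecialLinearGroup.coe_mul]
      simp only [mul_assoc, Matrix.nonsing_inv_mul_cancel_left P _ hPu]))
  refine a3_sylow (card_A3D δ) ρ' ((injective_iff_map_eq_one _).2 fun g hg =>
    (injective_iff_map_eq_one _).1 hρ g (Subtype.ext ?_)) (Unitary.card_SU hK (by norm_num)) ?_
  · have h1 : P * (ρ g).1 * P⁻¹ = 1 := congrArg (fun t => t.1.1) hg
    have h3 := congrArg (fun t => P⁻¹ * t * P) h1
    simp only [mul_assoc, Matrix.nonsing_inv_mul_cancel_left P _ hPu, Matrix.nonsing_inv_mul P hPu,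
      mul_one, one_mul] at h3
    exact h3
  · rw [Prime.dvd_finsetProd_iff hp.out.prime]
    rintro ⟨i, -, hi⟩
    have h1 : p ∣ p ^ (i + 1) := dvd_pow_self p (Nat.succ_ne_zero i)
    split_ifs at hi
    · exact hp.out.one_lt.ne' (Nat.dvd_one.1 ((Nat.dvd_add_right h1).1 hi))
    · have := Classical.sl_not_dvd_pow_sub_one (F := ZMod p) p i
      rw [ZMod.card] at this
      exact this hi

theorem a3_hom {p : ℕ} [hp : Fact p.Prime] (h2 : p ≠ 2) {H : Type*} [Group H] {δ : ZMod p}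
    (δ0 : δ ≠ 0) {w n₁ n₂ z x₁ x₂ : H} (pw : w ^ p = 1) (p1 : n₁ ^ p = 1) (p2 : n₂ ^ p = 1)
    (oz : orderOf z = p) (q1 : x₁ ^ p = 1) (q2 : x₂ ^ p = 1) (c01 : Commute w n₁)
    (c02 : Commute w n₂) (c03 : Commute w z) (c12 : Commute n₁ n₂) (c13 : Commute n₁ z)
    (c23 : Commute n₂ z) (cx : Commute x₁ x₂)
    (e10 : MulAut.conj x₁ w = w * n₁ * z) (e11 : MulAut.conj x₁ n₁ = n₁ * zpw z (2 : ZMod p))
    (e12 : MulAut.conj x₁ n₂ = n₂) (e13 : MulAut.conj x₁ z = z)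
    (e20 : MulAut.conj x₂ w = w * n₂ * zpw z (-δ)) (e21 : MulAut.conj x₂ n₁ = n₁)
    (e22 : MulAut.conj x₂ n₂ = n₂ * zpw z (-(2 * δ))) (e23 : MulAut.conj x₂ z = z) :
    ∃ f : A3D δ →* H, Function.Injective f := by
  have pz : z ^ p = 1 := oz ▸ pow_orderOf_eq_one z
  let l : ZMod p × ZMod p × ZMod p × ZMod p → H := fun v =>
    zpw w v.1 * zpw n₁ v.2.1 * zpw n₂ v.2.2.1 * zpw z v.2.2.2
  have ladd : ∀ u v, l (u + v) = l u * l v := fun u v => by
    simp only [l, Prod.fst_add, Prod.snd_add, zpw_add pw, zpw_add p1, zpw_add p2, zpw_add pz]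
    rw [(commute_zpw c01 _ _).mul_mul_mul_comm,
      ((commute_zpw c02 _ _).mul_left (commute_zpw c12 _ _)).mul_mul_mul_comm,
      (((commute_zpw c03 _ _).mul_left (commute_zpw c13 _ _)).mul_left
        (commute_zpw c23 _ _)).mul_mul_mul_comm]
  let L : Multiplicative (ZMod p × ZMod p × ZMod p × ZMod p) →* H :=
    MonoidHom.mk' (fun v => l v.toAdd) fun u v => ladd _ _
  have lz : ∀ v (a : ZMod p), zpw (l v) a = l (a • v) := fun v a => by
    obtain ⟨k, rfl⟩ := ZMod.natCast_zmod_surjective a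
    have lp : ∀ k : ℕ, l v ^ k = l ((k : ZMod p) • v) := fun k => by
      rw [Nat.cast_smul_eq_nsmul]
      exact (map_pow L (Multiplicative.ofAdd v) k).symm
    rw [zpw_natCast (by rw [lp, ZMod.natCast_self, zero_smul]; exact map_one L), lp]
  have key : ∀ (x : H) (t : ZMod p × ZMod p), x ^ p = 1 →
      MulAut.conj x w = l (a3f δ t (1, 0, 0, 0)) → MulAut.conj x n₁ = l (a3f δ t (0, 1, 0, 0)) →
      MulAut.conj x n₂ = l (a3f δ t (0, 0, 1, 0)) → MulAut.conj x z = l (a3f δ t (0, 0, 0, 1)) →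
      ∀ (s : ZMod p) v, MulAut.conj (zpw x s) (l v) = l (a3f δ (s • t) v) := by
    intro x t px f0 f1 f2 f3 s
    have h1 : ∀ v, MulAut.conj x (l v) = l (a3f δ t v) := fun v => by
      conv_lhs => simp only [l]
      rw [map_mul, map_mul, map_mul, map_zpw, map_zpw, map_zpw, map_zpw, f0, f1, f2, f3, lz, lz, lz,
        lz, ← ladd, ← ladd, ← ladd]
      congr 1
      ext <;> simp [a3f] <;> ring
    obtain ⟨k, rfl⟩ := ZMod.natCast_zmod_surjective s
    rw [zpw_natCast px]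
    induction k with
    | zero => intro v; simp [a3f_zero]
    | succ k ih =>
      intro v
      rw [pow_succ, map_mul MulAut.conj, MulAut.mul_apply, h1, ih, ← a3f_add, Nat.cast_succ, add_smul, one_smul]
  have k1 := key x₁ (1, 0) q1 (by simp [e10, l, a3f, zpw_zero, zpw_one, *])
    (by simp [e11, l, a3f, zpw_zero, zpw_one, *]) (by simp [e12, l, a3f, zpw_zero, zpw_one, *])
    (by simp [e13, l, a3f, zpw_zero, zpw_one, *])
  have k2 := key x₂ (0, 1) q2 (by simp [e20, l, a3f, zpw_zero, zpw_one, *])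
    (by simp [e21, l, a3f, zpw_zero, zpw_one, *]) (by simp [e22, l, a3f, zpw_zero, zpw_one, *])
    (by simp [e23, l, a3f, zpw_zero, zpw_one, *])
  let b : Multiplicative (ZMod p × ZMod p) →* H :=
    MonoidHom.mk' (fun s => zpw x₁ s.toAdd.1 * zpw x₂ s.toAdd.2) fun s t => by
      simp only [toAdd_mul, Prod.fst_add, Prod.snd_add, zpw_add q1, zpw_add q2]
      exact (commute_zpw cx _ _).mul_mul_mul_comm _ _
  refine ⟨_, a3_injective (two_ne_zmod h2) δ0 L b (fun k => MonoidHom.ext fun v => ?_) fun c hc => ?_⟩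
  · change l (a3f δ k.toAdd v.toAdd) = MulAut.conj (zpw x₁ k.toAdd.1 * zpw x₂ k.toAdd.2) (l v.toAdd)
    rw [map_mul MulAut.conj, MulAut.mul_apply, k2, k1, ← a3f_add]
    simp
  · have h1 : l (0, 0, 0, c) = 1 := hc
    simpa [l, zpw_zero, zpw_eq_one_iff oz] using h1

theorem XCfg.iso_A3D {Γ : Type*} [Group Γ] {p : ℕ} [hp : Fact p.Prime] {G Q : Subgroup Γ} {w : Γ}
    (h : XCfg p G Q w) (h2 : p ≠ 2) (hc : Nat.card (Q ⊓ centralizer {w} : Subgroup Γ) = p ^ 3) :
    ∃ δ : ZMod p, δ ≠ 0 ∧ Nonempty (A3D δ ≃* G) := by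
  have hfin : Finite G := Nat.finite_of_card_ne_zero (by rw [h.cardG]; exact (pow_pos hp.out.pos 6).ne')
  have hfQ : Finite Q := Nat.finite_of_card_ne_zero (by rw [h.cardQ]; exact (pow_pos hp.out.pos 5).ne')
  have hidx : (Q.subgroupOf G).index = p := by
    have := CfsgLib.Core.card_mul_relIndex_of_le h.Q_le
    rw [h.cardG, h.cardQ, pow_succ _ 5] at this
    exact Nat.eq_of_mul_eq_mul_left (pow_pos hp.out.pos 5) this
  have hnorm : w ∈ normalizer (Q : Set Γ) := (normal_subgroupOf_iff_le_normalizer h.Q_le).1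
    (CfsgLib.PGroup.normal_of_index_eq_prime (IsPGroup.of_card h.cardG) hidx) h.w_mem
  let τ : Q ≃* Q := Q.normalizerMonoidHom ⟨w, hnorm⟩
  have hτ1 : ∀ v : Q, ((τ v : Q) : Γ) = w * v * w⁻¹ := fun _ => rfl
  have hτ : ∀ (k : ℕ) (v : Q), ((τ^[k] v : Q) : Γ) = w ^ k * v * (w ^ k)⁻¹ := by
    intro k
    induction k with
    | zero => intro v; simp
    | succ k ih =>
      intro v
      rw [Function.iterate_succ_apply', hτ1, ih, pow_succ']
      group
  have hfix : ∀ v : Q, τ v = v ↔ (v : Γ) ∈ centralizer {w} := fun v => by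
    rw [mem_centralizer_singleton_iff, Subtype.ext_iff, eq_comm (a := (v : Γ) * w),
      ← mul_inv_eq_iff_eq_mul, hτ1]
  have hk : (τ.toMonoidHom.eqLocus (MonoidHom.id Q)).index = p ^ 2 := by
    have h1 : τ.toMonoidHom.eqLocus (MonoidHom.id Q) = (Q ⊓ centralizer {w}).subgroupOf Q := by
      ext v
      rw [mem_subgroupOf, mem_inf, ← hfix, and_iff_right v.2]
      rfl
    have h3 := CfsgLib.Core.card_mul_relIndex_of_le (inf_le_left : Q ⊓ centralizer {w} ≤ Q)
    rw [hc, h.cardQ, show p ^ 5 = p ^ 3 * p ^ 2 by ring] at h3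
    rw [h1]
    exact Nat.eq_of_mul_eq_mul_left (pow_pos hp.out.pos 3) h3
  obtain ⟨z, x₁, x₂, b₁, b₂, oz, zc, τz, b10, b20, cx, τc, cc, d11, d12, d21, d22⟩ :=
    a3_pair h2 h.extra τ (fun x => Subtype.ext (by rw [hτ, h.wp]; simp)) (fun y hy => by
      have h1 : ⁅w, (y : Γ)⁆⁻¹ = (y * (τ y)⁻¹ : Q) := by
        rw [commutatorElement_inv, commutatorElement_def, coe_mul, coe_inv, hτ1]; group
      have h3 := h.split y y.2 (inv_mem_iff.1 (h1 ▸ fun g hg =>
        congrArg Subtype.val (mem_center_iff.1 hy ⟨g, hg⟩)))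
      rw [commutatorElement_def, mul_inv_eq_one] at h3
      exact Subtype.ext h3) hk
  have two := two_ne_zmod h2
  have pQ : ∀ x : Q, x ^ p = 1 := fun x => Subtype.ext (h.expQ _ x.2)
  have pz := pQ z
  let j : Q →* G := inclusion h.Q_le
  let w' : G := ⟨w, h.w_mem⟩
  have jτ : ∀ x, w' * j x * w'⁻¹ = j (τ x) := fun _ => rfl
  have cw : ∀ x, τ x = x → Commute w' (j x) := fun x e => by
    rw [Commute, SemiconjBy, ← mul_inv_eq_iff_eq_mul, jτ, e]
  have cz : ∀ (x : Q) (a : ZMod p), Commute x (zpw z a) := fun x a =>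
    mem_center_iff.1 (zpw_mem zc a) x
  have pj : ∀ x, j x ^ p = 1 := fun x => by rw [← map_pow, pQ, map_one]
  have τn : ∀ (x : Q) (a : ZMod p), τ (x * (τ x)⁻¹ * zpw z a) = x * (τ x)⁻¹ * zpw z a :=
    fun x a => by rw [map_mul, τc, map_zpw, τz]
  have e0 : ∀ (x : Q) (a : ZMod p),
      MulAut.conj (j x) w' = w' * j (x * (τ x)⁻¹ * zpw z (-a)) * j (zpw z a) := fun x a => by
    rw [mul_assoc, ← map_mul, mul_assoc, ← zpw_add pz, neg_add_cancel, zpw_zero, mul_one,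
      (cw _ (τc x)).eq, map_mul, map_inv, ← jτ, MulAut.conj_apply]
    group
  have e1 : ∀ (x c : Q) (a a' : ZMod p), ⁅x, c⁆ = zpw z a' →
      MulAut.conj (j x) (j (c * zpw z a)) = j (c * zpw z a) * j (zpw z a') := fun x c a a' e => by
    rw [MulAut.conj_apply, ← map_inv, ← map_mul, ← map_mul, ← map_mul, (cz _ a').eq, ← e,
      ← mul_assoc x, mul_assoc _ (zpw z a), ← (cz _ a).eq, commutatorElement_def]
    group
  have e2 : ∀ (x c : Q) (a : ZMod p), ⁅x, c⁆ = 1 →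
      MulAut.conj (j x) (j (c * zpw z a)) = j (c * zpw z a) := fun x c a e => by
    rw [e1 x c a 0 (by rw [e, zpw_zero]), zpw_zero, map_one, mul_one]
  have e3 : ∀ (x : Q) (a : ZMod p), MulAut.conj (j x) (j (zpw z a)) = j (zpw z a) := fun x a => by
    rw [MulAut.conj_apply, ((cz x a).map j).eq, mul_inv_cancel_right]
  have jz : ∀ a a' : ZMod p, zpw (j (zpw z a)) a' = j (zpw z (a * a')) := fun a a' => by
    rw [← map_zpw, zpw_zpw pz]
  have δ0 : -b₂ / b₁ ≠ 0 := div_ne_zero (neg_ne_zero.2 b20) b10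
  obtain ⟨f, hf⟩ := a3_hom h2 δ0 (w := w') (n₁ := j (x₁ * (τ x₁)⁻¹ * zpw z (-(b₁ / 2))))
    (n₂ := j (x₂ * (τ x₂)⁻¹ * zpw z (-(b₂ / 2)))) (z := j (zpw z (b₁ / 2))) (x₁ := j x₁)
    (x₂ := j x₂) (Subtype.ext h.wp) (pj _) (pj _)
    (orderOf_eq_prime (pj _) fun e => div_ne_zero b10 two ((zpw_eq_one_iff oz).1
      (inclusion_injective h.Q_le (e.trans (map_one j).symm))))
    (pj _) (pj _) (cw _ (τn _ _)) (cw _ (τn _ _)) (cw _ (by rw [map_zpw, τz]))
    ((((commutatorElement_eq_one_iff_commute.1 cc).mul_right (cz _ _)).mul_left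
      (cz _ _).symm).map j) ((cz _ _).map j) ((cz _ _).map j)
    ((commutatorElement_eq_one_iff_commute.1 cx).map j) (e0 _ _)
    (by rw [e1 _ _ _ _ d11, jz, div_mul_cancel₀ _ two]) (e2 _ _ _ d12) (e3 _ _)
    (by rw [e0 x₂ (b₂ / 2), jz]; congr 3; field_simp) (e2 _ _ _ d21)
    (by rw [e1 _ _ _ _ d22, jz]; congr 3; field_simp) (e3 _ _)
  exact ⟨_, δ0, ⟨MulEquiv.ofBijective f ((Nat.bijective_iff_injective_and_card _).2
    ⟨hf, by rw [card_A3D, h.cardG]⟩)⟩⟩

theorem XCfg.iso_A3 {Γ : Type*} [Group Γ] {p : ℕ} [hp : Fact p.Prime] {G Q : Subgroup Γ} {w : Γ}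
    (h : XCfg p G Q w) (h2 : p ≠ 2) (hc : Nat.card (Q ⊓ centralizer {w} : Subgroup Γ) = p ^ 3) :
    (∃ P : Sylow p (Matrix.SpecialLinearGroup (Fin 4) (ZMod p)),
        Nonempty (G ≃* (P : Subgroup (Matrix.SpecialLinearGroup (Fin 4) (ZMod p))))) ∨
      ∃ (K : Type) (_ : Field K) (_ : Fintype K), Fintype.card K = p ^ 2 ∧
        ∃ P : Sylow p (Cfsg.SU 4 K p), Nonempty (G ≃* (P : Subgroup (Cfsg.SU 4 K p))) := by
  obtain ⟨δ, δ0, ⟨e⟩⟩ := h.iso_A3D h2 hc
  by_cases hδ : IsSquare δ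
  · obtain ⟨θ, rfl⟩ := hδ
    obtain ⟨P, ⟨e'⟩⟩ := a3_SL h2 δ0
    exact .inl ⟨P, ⟨e.symm.trans e'⟩⟩
  · obtain ⟨K, _, _, hK, P, ⟨e'⟩⟩ := a3_SU h2 hδ
    exact .inr ⟨K, _, _, hK, P, ⟨e.symm.trans e'⟩⟩

end CfsgLib.Fus3
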