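import Mathlib
import Cfsg.Agent.Lib.Fus3.Quad

/-!
The case in which some conjugate of the centre lies outside the extraspecial subgroup.
-/

set_option autoImplicit false
set_option linter.unusedSectionVars false

namespace CfsgLib.Fus3

open Subgroup Cfsg CfsgLib.LAE CfsgLib.Fusion CfsgLib.Fus2
open Cfsg.FusionSystem hiding inv_mem
open scoped commutatorElement

variable {Γ : Type*} [Group Γ] {p : ℕ} {S Q Z E M : Subgroup Γ} {g a x x' y y₀ u v e : Γ}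

/-- The conjugate `u` of the central element `x` lies outside `Q`. -/
structure XB (p : ℕ) (S Q Z E M : Subgroup Γ) (a x u : Γ) : Prop extends XM p S Q Z E M where
  aM : a ∈ M
  xZ : x ∈ Z
  eu : a * x * a⁻¹ = u
  uQ : u ∉ Q

variable [Finite Γ] [hp : Fact p.Prime]

namespace XB

theorem uZ (h : XB p S Q Z E M a x u) : u ∉ Z := fun H => h.uQ (h.ZQ H)

theorem uZ' (h : XB p S Q Z E M a x u) : a * x * a⁻¹ ∉ Z := h.eu ▸ h.uZ

theorem uE (h : XB p S Q Z E M a x u) : u ∈ E := h.eu ▸ h.cj_mem h.aM h.xZ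

theorem uS (h : XB p S Q Z E M a x u) : u ∈ S := h.ES h.uE

theorem ucom (h : XB p S Q Z E M a x u) (hy : y ∈ E) : Commute y u := h.eu ▸ h.cj_com h.aM h.xZ hy

theorem up (h : XB p S Q Z E M a x u) : u ^ p = 1 := h.eu ▸ h.cj_pow h.xZ

theorem mem (h : XB p S Q Z E M a x u) (hy : y ∈ S) (hc : Commute y u) : y ∈ E :=
  h.mem_E h.aM h.xZ h.uZ' hy (h.eu ▸ hc)

theorem eZ' (h : XB p S Q Z E M a x u) : conjS a Z = zpowers u := h.eu ▸ h.conjS_Z h.xZ h.uZ'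

theorem eE (h : XB p S Q Z E M a x u) : E ⊓ Q ⊔ zpowers u = E :=
  sup_zpowers_eq inf_le_left h.iD h.uE fun H => h.uQ H.2

theorem gen (h : XB p S Q Z E M a x u) {X : Subgroup Γ} (hX : E ≤ normalizer (X : Set Γ))
    (h1 : ∀ d ∈ E, d ∈ Q → ⁅y, d⁆ ∈ X) (h2 : ⁅y, u⁆ ∈ X) : ∀ e ∈ E, ⁅y, e⁆ ∈ X := fun e he =>
  cm_sup_zpowers (inf_le_left.trans hX) (hX h.uE) (fun d hd => h1 d hd.1 hd.2) h2 e (h.eE.ge he)

theorem ab' (h : XB p S Q Z E M a x u) : E ≤ centralizer (E : Set Γ) :=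
  h.ab_of (commutator_le.2 fun y hy => h.gen (h.ES.trans h.SnZ)
    (fun d hd hQ => cm_swap (h.gen (h.ES.trans h.SnZ) (fun _ _ => h.cm hQ)
      (by rw [(h.ucom hd).commutator_eq]; exact one_mem _) y hy))
    (by rw [(h.ucom hy).commutator_eq]; exact one_mem _))

theorem co (h : XB p S Q Z E M a x u) (hy : y ∈ E) (he : e ∈ E) : Commute y e :=
  commute_of_mem (h.ab' hy) he

theorem exp (h : XB p S Q Z E M a x u) (he : e ∈ E) : e ^ p = 1 := by_contra fun H => by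
  have key : ∀ e ∈ E, e ^ p ∈ Z := fun e he => by
    obtain ⟨d, hd, i, rfl⟩ := exists_eq_mul_zpow h.pE inf_le_left h.iD h.uE (fun H => h.uQ H.2) he
    rw [((h.ucom hd.1).zpow_right i).mul_pow, pow_eq_one_zpowers h.up _ (zpow_mem_zpowers u i),
      mul_one]
    exact h.powZ hd.2
  obtain ⟨i, hi⟩ := (h.zpowers_eq (key e he) H).ge h.xZ
  refine h.uZ' ?_
  rw [← hi, ← conj_zpow, ← conj_pow]
  exact Z.zpow_mem (key _ (conj_mem (h.norm h.aM) he)) i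

theorem zp (h : XB p S Q Z E M a x u) (hv : v ∈ zpowers u) (hQ : v ∈ Q) : v = 1 := by
  obtain ⟨i, rfl⟩ := hv
  by_cases hi : (p : ℤ) ∣ i
  · obtain ⟨j, rfl⟩ := hi
    simp only [zpow_mul, zpow_natCast, h.up, one_zpow]
  · exact (h.uQ (mem_of_zpow_mem (pg_zpowers h.pE h.uE) hi hQ)).elim

theorem inQ (h : XB p S Q Z E M a x u) (hg : g ∈ M) (hx : x' ∈ Z) (hQ : g * x' * g⁻¹ ∈ Q) :
    g * x' * g⁻¹ ∈ Z := by_contra fun hn => by
  refine h.not_ab (A := E ⊓ Q) inf_le_right (fun d hd e he => h.ab' hd.1 e he.1)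
    (le_trans (relIndex_le_of_le_left (H := Q ⊓ centralizer {g * x' * g⁻¹}) (fun y hy =>
      ⟨h.mem_E hg hx hn (h.QS hy.1) (mem_centralizer_singleton_iff.1 hy.2), hy.1⟩)
    (relIndex_pos' _ _).ne') ?_)
  rw [inf_relIndex_left, ← h.cardZ]
  exact relIndex_cent_le fun r hr => h.cm hQ hr

theorem inQ' (h : XB p S Q Z E M a x u) (hg : g ∈ M) (hx : x' ∈ Z)
    (hQ : g * x' * g⁻¹ ∈ conjS a Q) : g * x' * g⁻¹ ∈ zpowers u := by
  rw [← h.eZ', mem_conjS] at *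
  have e : a⁻¹ * (g * x' * g⁻¹) * a = a⁻¹ * g * x' * (a⁻¹ * g)⁻¹ := by group
  rw [e] at hQ ⊢
  exact h.inQ (M.mul_mem (M.inv_mem h.aM) hg) hx hQ

theorem nrm (h : XB p S Q Z E M a x u) (hy : y ∈ Q) (hc : ⁅y, u⁆ ∈ E) :
    y ∈ normalizer (E : Set Γ) :=
  mem_normalizer_of_cm (h.gen le_normalizer (fun _ _ hd => h.ZE (h.cm hy hd)) hc)

theorem par (h : XB p S Q Z E M a x u) (hi : E.relIndex (normalizerIn S E) = p) :
    Par p (normalizerIn S E) E (normalizerIn S E ⊔ conjS a (normalizerIn S E)) :=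
  h.toMod.par hi h.aM (h.not_nN h.aM h.xZ h.uZ')

theorem LM (h : XB p S Q Z E M a x u) : normalizerIn S E ⊔ conjS a (normalizerIn S E) ≤ M :=
  sup_le h.GL' (conjS_le_of_le_of_mem h.GL' h.aM)

theorem trans_Z (h : XB p S Q Z E M a x u) (h0 : y₀ ∈ Q) (h1 : ⁅u, y₀⁆ ∈ Z) (h2 : ⁅u, y₀⁆ ≠ 1)
    (hy : y ∈ Q) (hn : y ∈ normalizer (E : Set Γ)) : ⁅u, y⁆ ∈ Z := by
  have yM := h.GL' (⟨h.QS hy, hn⟩ : y ∈ normalizerIn S E)
  have h3 : y₀ ∉ E := fun H => h2 (h.ucom H).symm.commutator_eq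
  have h4 : y₀ ∈ normalizerIn S E := ⟨h.QS h0, h.nrm h0 (h.ZE (cm_swap h1))⟩
  have u' := conj_mem hn h.uE
  by_cases H : y * u * y⁻¹ ∈ zpowers u
  · have : ⁅y, u⁆ = 1 := h.zp (mul_mem H (inv_mem (mem_zpowers u))) (h.cmQ (h.QS hy) h.uS)
    exact cm_swap (this ▸ Z.one_mem)
  have e1 : a⁻¹ * (y * u * y⁻¹) * a = a⁻¹ * y * a * x * (a⁻¹ * y * a)⁻¹ := by rw [← h.eu]; group
  have c1 : ⁅y₀, a⁻¹ * (y * u * y⁻¹) * a⁆ ∈ Z := h.gen (h.ES.trans h.SnZ) (fun _ _ => h.cm h0)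
    (cm_swap h1) _ (conj_mem' (h.norm h.aM) u')
  have c2 : ⁅y₀, a⁻¹ * (y * u * y⁻¹) * a⁆ ≠ 1 := fun e => h3 (h.se _
    (M.mul_mem (M.mul_mem (M.inv_mem h.aM) yM) h.aM) x h.xZ
    (fun H' => H (by rw [← h.eZ', mem_conjS, e1]; exact H')) y₀ h4
    (e1 ▸ commutatorElement_eq_one_iff_commute.1 e))
  obtain ⟨j, hj⟩ := (h.zpowers_eq c1 c2).ge (Z.inv_mem h.xZ)
  simp only [← Core.commutatorElement_zpow_left_of_commute (h.com (h.QS h0) c1)] at hj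
  have e2 : ⁅y, u⁆ = a * y₀ ^ j * a⁻¹ * y * a * x * (a * y₀ ^ j * a⁻¹ * y * a)⁻¹ := by
    have : a * ⁅y₀ ^ j, a⁻¹ * (y * u * y⁻¹) * a⁆ * a⁻¹ * (y * u * y⁻¹) = ⁅y, u⁆ := by
      rw [hj, commutatorElement_def, (h.ucom u').inv_right.eq, ← h.eu]; group
    rw [← this, ← h.eu]; group
  refine cm_swap (e2 ▸ h.inQ (M.mul_mem (M.mul_mem (M.mul_mem (M.mul_mem h.aM
    (M.zpow_mem (h.GL' h4) j)) (M.inv_mem h.aM)) yM) h.aM) h.xZ (e2 ▸ h.cmQ (h.QS hy) h.uS))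

theorem b2 (h : XB p S Q Z E M a x u) (h0 : y₀ ∈ Q) (h1 : ⁅u, y₀⁆ ∈ Z) (h2 : ⁅u, y₀⁆ ≠ 1) :
    E ⊓ Q = Z ∧ E.relIndex (normalizerIn S E) = p := by
  have p1 := hp.out.one_lt
  have key := fun y => h.trans_Z (y := y) h0 h1 h2
  refine ⟨le_antisymm ?_ (le_inf h.ZE h.ZQ), ?_⟩
  · have ZC : Z ≤ Q ⊓ cmSub u Z := fun z hz =>
      ⟨h.ZQ hz, le_normalizer hz, cm_mem_right (h.SnZ h.uS) hz⟩
    have DC : E ⊓ Q ≤ Q ⊓ cmSub u Z := fun d hd => ⟨hd.2, h.SnZ (h.QS hd.2), by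
      rw [(h.ucom hd.1).symm.commutator_eq]; exact one_mem _⟩
    obtain ⟨r, hr, r1, -, r2⟩ := exists_central_mod h.pS h.QS (X := Q ⊓ cmSub u Z)
      (h.sup_eq h.uS h.uQ ▸ sup_le (le_normalizer_of_cm fun g hg c hc => ZC (h.cm hg hc.1))
        (zpowers_le.2 (mem_normalizer_of_cm fun c hc => ZC hc.2.2))) h.SQ
      fun H => h.nt u h.uS h.uQ fun y hy => (H hy).2.2
    have c1 := r2 u h.uS
    have c2 : ⁅u, r⁆ ∉ E ⊓ Q := fun H =>
      r1 ⟨hr, h.SnZ (h.QS hr), key r hr (h.nrm hr (cm_swap H.1))⟩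
    have i : (E ⊓ Q).relIndex (Q ⊓ cmSub u Z) = p := by
      have h3 := relIndex_le_of_le_left (H := (Q ⊓ cmSub u Z) ⊓ centralizer {u}) (K := E ⊓ Q)
        (L := Q ⊓ cmSub u Z) (fun y hy => ⟨h.mem (h.QS hy.1.1)
          (mem_centralizer_singleton_iff.1 hy.2), hy.1.1⟩) (relIndex_pos' _ _).ne'
      have h4 := relIndex_cent_le (R := Q ⊓ cmSub u Z) (X := Z) fun r hr => hr.2.2
      rw [inf_relIndex_left] at h3
      rw [h.cardZ] at h4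
      exact relIndex_eq_prime (h.pQ.to_le inf_le_left) (fun H => c2 (H c1)) (by nlinarith)
    intro d hd
    obtain ⟨s, hs, s1⟩ := h.im_perp h.uS hd.2 fun c hc hc' => (commute_of_mem
      (mem_centralizer_sup_zpowers (A := E ⊓ Q) (fun e he => h.ab' hd.1 e he.1)
        (h.perp h.uS hr hd.2 (DC hd).2.2).symm)
      ((sup_zpowers_eq DC i c1 c2).ge ⟨hc, h.SnZ (h.QS hc), hc'⟩))
    have s2 : ⁅u, s⁆ ∈ E := by simpa using E.mul_mem hd.1 (E.inv_mem (h.ZE s1))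
    exact mul_inv_cancel_left ⁅u, s⁆ d ▸ Z.mul_mem (key s hs (h.nrm hs (cm_swap s2))) s1
  · have h3 := relIndex_le_of_le_left (H := normalizerIn S E ⊓ centralizer {u}) (K := E)
      (L := normalizerIn S E) (fun y hy => h.mem hy.1.1 (mem_centralizer_singleton_iff.1 hy.2))
      (relIndex_pos' _ _).ne'
    have h4 := relIndex_cent_le (R := normalizerIn S E) (X := Z) (u := u) fun r hr => by
      obtain ⟨q, hq, e, he, rfl⟩ := h.exists_mul hr.1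
      refine cm_swap ?_
      rw [cm_mul_left, (h.ucom he).commutator_eq, mul_one, mul_inv_cancel, one_mul]
      exact cm_swap (key q hq ((mul_mem_cancel_right (le_normalizer he)).1 hr.2))
    rw [inf_relIndex_left] at h3
    rw [h.cardZ] at h4
    exact relIndex_eq_prime h.pG (fun H => h2 (h.ucom (H ⟨h.QS h0,
      h.nrm h0 (h.ZE (cm_swap h1))⟩)).symm.commutator_eq) (by nlinarith)

end XB

end CfsgLib.Fus3
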