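import Mathlib
import Cfsg.Agent.Lib.Fus3.XB
import Cfsg.Agent.Lib.Fus2.MCA

/-!
The case in which the fixed points of `u` on `Q / Z` lift to fixed points on `Q`.
-/

set_option autoImplicit false
set_option linter.unusedSectionVars false

namespace CfsgLib.Fus3

open Subgroup Cfsg CfsgLib.LAE CfsgLib.Fusion CfsgLib.Fus2
open Cfsg.FusionSystem hiding inv_mem
open scoped commutatorElement

variable {Γ : Type*} [Group Γ] [Finite Γ] {p : ℕ} [hp : Fact p.Prime] {S Q Z E M G K L : Subgroup Γ}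
  {g a n x x' y y₀ u v e d : Γ}

namespace XB

theorem iD' (h : XB p S Q Z E M a x u) : (conjS a (E ⊓ Q)).relIndex E = p := by
  have := relIndex_conjS a (E ⊓ Q) E
  rwa [h.conjS_E h.aM, h.iD] at this

theorem qf (h : XB p S Q Z E M a x u) : ∃ χ β, QF p (Q ⊓ normalizer (E : Set Γ)) (E ⊓ Q) χ β ∧
    (∀ y w, ⁅y, ⁅w, u⁆⁆ = 1 → β y w = 0) ∧ ∀ ζ ∈ Z, ∃ c, ∀ y ∈ Q ⊓ normalizer (E : Set Γ),
      χ y = c → y * (u * ζ) * y⁻¹ ∈ conjS a Q := by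
  have eE := h.conjS_E h.aM
  obtain ⟨φ, h1, h2⟩ := exists_chi h.pE ((conjS_mono inf_le_left).trans eE.le) h.iD'
  have φ1 : φ 1 = 0 := (h2 1 E.one_mem).2 (one_mem _)
  have φu : φ u = 0 := (h2 u h.uE).2 (h.eu ▸ conj_mem_conjS.2 ⟨h.ZE h.xZ, h.ZQ h.xZ⟩)
  have hd : ∀ w ∈ Q ⊓ normalizer (E : Set Γ), ⁅w, u⁆ ∈ E ⊓ Q := fun w hw =>
    ⟨cm_mem_right hw.2 h.uE, h.cmQ (h.QS hw.1) h.uS⟩
  have hm : ∀ y ∈ Q ⊓ normalizer (E : Set Γ), ∀ w ∈ Q ⊓ normalizer (E : Set Γ),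
      φ (y * w * u * (y * w)⁻¹) = φ (y * u * y⁻¹) + φ (w * u * w⁻¹) + φ ⁅y, ⁅w, u⁆⁆ :=
    fun y hy w hw => by
      have z1 := h.ZE (h.cm hy.1 (hd w hw).2)
      rw [show y * w * u * (y * w)⁻¹ = ⁅y, ⁅w, u⁆⁆ * ⁅w, u⁆ * (y * u * y⁻¹) by group,
        h1 _ (E.mul_mem z1 (hd w hw).1) _ (conj_mem hy.2 h.uE), h1 _ z1 _ (hd w hw).1,
        show w * u * w⁻¹ = ⁅w, u⁆ * u by group, h1 _ (hd w hw).1 u h.uE, φu]
      ring
  refine ⟨fun y => φ (y * u * y⁻¹), fun y w => φ ⁅y, ⁅w, u⁆⁆, ⟨h.odd, hm,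
    fun y hy y' hy' w hw => ?_, fun y hy w hw => ?_, fun y hy H => ⟨h.mem (h.QS hy.1) ?_, hy.1⟩⟩,
    fun y w H => (congrArg φ H).trans φ1, fun ζ hζ => ⟨-φ ζ, fun y hy H => conjS_mono (inf_le_right (a := E)) ?_⟩⟩
  · have z1 := h.cm hy.1 (hd w hw).2
    have z2 := h.cm hy'.1 (hd w hw).2
    rw [cm_mul_left, (h.com (h.QS hy.1) z2).eq, mul_inv_cancel_right, h1 _ (h.ZE z2) _ (h.ZE z1),
      add_comm]
  · have e1 := hm y hy w hw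
    have e2 := hm w hw y hy
    have := h.com (h.ES (conj_mem (mul_mem hw hy).2 h.uE)) (h.cm hy.1 hw.1)
    rw [show y * w * u * (y * w)⁻¹ = ⁅y, w⁆ * (w * y * u * (w * y)⁻¹) * ⁅y, w⁆⁻¹ by group,
      ← this.eq, mul_inv_cancel_right, e2] at e1
    linear_combination -e1
  · have e1 : y * u * y⁻¹ = y * a * x * (y * a)⁻¹ := by rw [← h.eu]; group
    have := h.inQ' (M.mul_mem (h.GL' ⟨h.QS hy.1, hy.2⟩) h.aM) h.xZ
      (e1 ▸ conjS_mono inf_le_right ((h2 _ (conj_mem hy.2 h.uE)).1 H))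
    exact commutatorElement_eq_one_iff_commute.1
      (h.zp (mul_mem (e1 ▸ this) (inv_mem (mem_zpowers u))) (hd y hy).2)
  · have e1 : y * (u * ζ) * y⁻¹ = y * u * y⁻¹ * ζ := by
      rw [← mul_assoc, mul_assoc _ ζ, (h.com (S.inv_mem (h.QS hy.1)) hζ).symm.eq, ← mul_assoc]
    refine (h2 _ (conj_mem hy.2 (E.mul_mem h.uE (h.ZE hζ)))).1 ?_
    rw [e1, h1 _ (conj_mem hy.2 h.uE) _ (h.ZE hζ)]
    linear_combination H

theorem no_rad (h : XB p S Q Z E M a x u) (hB : ∀ y ∈ Q, ⁅u, y⁆ ∈ Z → ⁅u, y⁆ = 1) (h0 : y₀ ∈ Q)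
    (hn : y₀ ∈ normalizer (E : Set Γ)) (hc : y₀ ∈ centralizer ((E ⊓ Q : Subgroup Γ) : Set Γ)) :
    y₀ ∈ E := by_contra fun h1 => by
  obtain ⟨χ, β, q, q1, -⟩ := h.qf
  have b0 : ∀ w ∈ Q ⊓ normalizer (E : Set Γ), β y₀ w = 0 := fun w hw =>
    q1 _ _ (cm_eq_one hc ⟨cm_mem_right hw.2 h.uE, h.cmQ (h.QS hw.1) h.uS⟩)
  have yN : y₀ ∈ normalizerIn S E := ⟨h.QS h0, hn⟩
  have e1 : E ⊔ zpowers y₀ = normalizerIn S E := le_antisymm (sup_le h.le (zpowers_le.2 yN))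
    fun r hr => by
      obtain ⟨w, hw, e, he, rfl⟩ := h.exists_mul hr.1
      have hw' := (mul_mem_cancel_right (le_normalizer he)).1 hr.2
      obtain ⟨i, hi⟩ := q.iso ⟨h0, hn⟩ (fun H => h1 H.1) (b0 _ ⟨h0, hn⟩) ⟨hw, hw'⟩ (b0 _ ⟨hw, hw'⟩)
      refine mul_mem ?_ (mem_sup_left he)
      simpa using mul_mem (inv_mem (mem_sup_right (S := E) (pow_mem (mem_zpowers y₀) i)))
        (mem_sup_left hi.1)
  have P := h.par (e1 ▸ relIndex_sup_zpowers hn h1 (h.ZE (h.powZ h0)))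
  obtain ⟨b, -, -, i0, s, c0, c1⟩ := P.transvection (X := ⊥) inf_le_left h.iD
    (le_normalizer_inf h.GN ((normalizerIn_le S E).trans h.SQ)) bot_le (norm_bot _) (by simp) yN h1
    fun d hd => cm_eq_one hc hd
  obtain ⟨d1, -⟩ := c1 u h.uE fun H => h.uQ H.2
  obtain ⟨z, hz, hzc, zN, z1, z2⟩ := s.exists_z
  have zZ := h.nZ_of_nN (h.LM hz) zN
  have x1 : x ≠ 1 := fun e => h.uZ' (by simp [e])
  have x0 : x ∉ E ⊓ Q ⊓ conjS b (E ⊓ Q) := fun H => h.nL h.aM h.xZ h.uZ' (le_sup_right.trans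
    (P.le_normalizer_of_res (Y := Z) ((commutator_mono le_rfl ((h.zpowers_eq h.xZ x1).ge.trans
      (zpowers_le.2 H))).trans (c0.trans bot_le)) le_rfl ((normalizerIn_le S E).trans h.SnZ)))
  have xD : x ∈ E ⊓ Q := ⟨h.ZE h.xZ, h.ZQ h.xZ⟩
  obtain ⟨k, hk, i, e2⟩ := exists_eq_mul_zpow (h.pX inf_le_left) inf_le_left i0 xD x0 d1
  have k1 : ⁅z, k⁆ = 1 := cm_mem_of_res c0 hz hzc hk
  have x2 : z * x * z⁻¹ = x⁻¹ := by
    rcases h.eq_or (A := Z ⊓ (E ⊓ Q ⊓ conjS b (E ⊓ Q))) inf_le_left with e | e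
    · exact eq_inv_of_mul_eq_one_right (mem_bot.1 (e.le ⟨Z.mul_mem h.xZ (conj_mem zZ h.xZ),
        z2 x xD.1⟩))
    · exact (x0 (e.ge h.xZ).2).elim
  have d2 : z * ⁅y₀, u⁆ * z⁻¹ = ⁅y₀, u⁆⁻¹ := by
    have u1 := z2 u h.uE
    rw [conjugate_commutatorElement, show z * y₀ * z⁻¹ = ⁅z, y₀⁆ * y₀ by group, cm_mul_left,
      (h.co (z1 _ yN) (conj_mem (P.norm hz) h.uE)).commutator_eq, mul_one,
      (h.co (z1 _ yN) (cm_mem_right hn (conj_mem (P.norm hz) h.uE))).eq, mul_inv_cancel_right,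
      show ⁅y₀, z * u * z⁻¹⁆ = u⁻¹ * ⁅y₀, u⁆⁻¹ * ⁅y₀, u * (z * u * z⁻¹)⁆ * u by group,
      cm_eq_one hc u1.1, mul_one, (h.ucom d1.1).inv_inv.symm.eq, inv_mul_cancel_right]
  have k2 : k * k = 1 := by
    rw [e2, show z * (k * x ^ i) * z⁻¹ = ⁅z, k⁆ * k * (z * x * z⁻¹) ^ i by rw [conj_zpow]; group,
      k1, x2, mul_inv_rev, ← ((h.com (h.ES hk.1.1) (Z.zpow_mem h.xZ i)).inv_inv).eq, one_mul,
      inv_zpow, mul_left_inj] at d2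
    exact mul_eq_one_iff_eq_inv.2 d2
  have k3 : k = 1 := mem_bot.1 (mem_of_sq_mem h.odd (pg_zpowers h.pE hk.1.1) (k2 ▸ one_mem _))
  rw [k3, one_mul] at e2
  exact h1 (h.mem (h.QS h0) (Commute.symm (commutatorElement_eq_one_iff_commute.1
    (hB _ h0 (cm_swap (e2 ▸ Z.zpow_mem h.xZ i))))))

/-- The structure of the remaining case: `E` is normal and `|Q : E ∩ Q| = p ^ 2`. -/
theorem b1_str (h : XB p S Q Z E M a x u) (hB : ∀ y ∈ Q, ⁅u, y⁆ ∈ Z → ⁅u, y⁆ = 1) :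
    Q ≤ normalizer (E : Set Γ) ∧ Nat.card Q = p ^ 5 ∧ Nat.card (E ⊓ Q : Subgroup Γ) = p ^ 3 ∧
      (E ⊓ Q).relIndex Q = p ^ 2 := by
  have cD : E ⊓ Q ≤ centralizer ((E ⊓ Q : Subgroup Γ) : Set Γ) := fun d hd e he => h.ab' hd.1 e he.1
  have h1 := h.grow (T := Q ⊓ centralizer ((E ⊓ Q : Subgroup Γ) : Set Γ)) (inf_le_left.trans h.QS)
    (le_normalizer_inf (h.ES.trans h.SQ) ((le_normalizer_inf le_normalizer (h.ES.trans h.SQ)).trans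
      (LAE.normalizer_le_normalizer_centralizer _))) fun y hy hn => h.no_rad hB hy.1 hn hy.2
  have h2 : Q ≤ normalizer (E : Set Γ) := fun r hr => h.nrm hr (cm_swap (h1
    ⟨h.cmQ h.uS (h.QS hr), fun d hd => (h.perp h.uS hr hd.2 (by
      rw [(h.ucom hd.1).symm.commutator_eq]; exact one_mem _)).symm⟩))
  obtain ⟨χ, β, q, q1, -⟩ := h.qf
  rw [inf_eq_left.2 h2] at q
  exact ⟨h2, h.ab inf_le_right cD (q.idx inf_le_right
    (le_normalizer_inf h2 le_normalizer) (fun y hy => ⟨h.ZE (h.powZ hy), Q.pow_mem hy p⟩)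
    fun k hk w hw => q1 _ _ (h.co hk.1 (cm_mem_right (h2 hw) h.uE)).commutator_eq)⟩

theorem onto (h : XB p S Q Z E M a x u) (hB : ∀ y ∈ Q, ⁅u, y⁆ ∈ Z → ⁅u, y⁆ = 1) (hd : d ∈ E)
    (hQ : d ∈ Q) : ∃ r ∈ Q, ∃ ζ ∈ Z, d = ⁅r, u⁆ * ζ := by
  obtain ⟨r, hr, h1⟩ := h.im_perp h.uS (Q.inv_mem hQ) fun c hc H => h.co (E.inv_mem hd)
    (h.mem (h.QS hc) (commutatorElement_eq_one_iff_commute.1 (hB c hc H)).symm)
  refine ⟨r, hr, _, conj_mem (h.SnZ (h.cmQ h.uS (h.QS hr) |> h.QS)) (Z.inv_mem h1), ?_⟩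
  have := (h.co hd (cm_mem_right ((h.b1_str hB).1 hr) h.uE)).eq
  rw [mul_inv_rev, inv_inv, inv_inv, ← commutatorElement_inv u r, ← mul_assoc, ← mul_assoc]
  group

theorem trans1 (h : XB p S Q Z E M a x u) (hB : ∀ y ∈ Q, ⁅u, y⁆ ∈ Z → ⁅u, y⁆ = 1) (hg : g ∈ M)
    (hx : x' ∈ Z) (hn : g * x' * g⁻¹ ∉ Z) : ∃ y ∈ Q, y * (g * x' * g⁻¹) * y⁻¹ ∈ zpowers u := by
  obtain ⟨nE, -, -, i2⟩ := h.b1_str hB
  have vE := h.cj_mem hg hx
  obtain ⟨d, hd, i, e⟩ := exists_eq_mul_zpow h.pE inf_le_left h.iD vE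
    (fun H => hn (h.inQ hg hx H.2)) h.uE
  obtain ⟨r, hr, ζ, hζ, e1⟩ := h.onto hB (E.inv_mem hd.1) (Q.inv_mem hd.2)
  obtain ⟨χ, β, q, -, q2⟩ := h.qf
  obtain ⟨c, hc⟩ := q2 ζ hζ
  rw [inf_eq_left.2 nE] at q hc
  obtain ⟨y, hy, e2⟩ := q.surj (by have := hp.out.one_lt; rw [i2]; nlinarith) c
  have e3 : y * (u * ζ) * y⁻¹ = (y * r⁻¹ * (g * x' * g⁻¹) * (y * r⁻¹)⁻¹) ^ i := by
    have : (g * x' * g⁻¹) ^ i = r * (u * ζ) * r⁻¹ := by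
      rw [← mul_assoc, mul_assoc _ ζ, ← (h.com (S.inv_mem (h.QS hr)) hζ).eq,
        eq_comm, ← mul_right_inj d, ← e, ← eq_inv_mul_iff_mul_eq, e1, mul_assoc _ ζ,
        ← (h.com h.uS hζ).eq]
      group
    rw [conj_zpow, this]; group
  have yM := h.GL' (⟨h.QS (Q.mul_mem hy (Q.inv_mem hr)), nE (Q.mul_mem hy (Q.inv_mem hr))⟩ :
    y * r⁻¹ ∈ normalizerIn S E)
  have h1 := h.inQ' (M.mul_mem yM hg) (Z.zpow_mem hx i) (by
    have := hc y hy e2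
    rw [e3] at this
    convert this using 1
    rw [conj_zpow, conj_zpow]; group)
  refine ⟨_, Q.mul_mem hy (Q.inv_mem hr), mem_of_zpow_mem
    (pg_zpowers h.pE (conj_mem (h.norm yM) vE)) (i := i) (fun ⟨j, hj⟩ => h.uQ ?_) ?_⟩
  · rw [e, hj, zpow_mul, zpow_natCast, h.cj_pow hx, one_zpow, mul_one]; exact hd.2
  · convert h1 using 1
    rw [conj_zpow, conj_zpow]; group

theorem trans2 (h : XB p S Q Z E M a x u) (hB : ∀ y ∈ Q, ⁅u, y⁆ ∈ Z → ⁅u, y⁆ = 1) (hg : g ∈ M)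
    (hx : x' ∈ Z) (hn : g * x' * g⁻¹ ∉ zpowers u) :
    ∃ y ∈ conjS a Q, y * (g * x' * g⁻¹) * y⁻¹ ∈ Z := by
  have a' := M.inv_mem h.aM
  obtain ⟨y, hy, h1⟩ := h.trans1 hB (M.mul_mem a' hg) hx fun H => hn (by
    rw [← h.eZ', mem_conjS]; convert H using 1; group)
  obtain ⟨w, hw, h2⟩ := h.trans1 hB a' h.xZ (h.not_mem_inv h.xZ h.uZ')
  have x1 : x ≠ 1 := fun e => h.uZ' (by simp [e])
  have e : zpowers (w * (a⁻¹ * x * a⁻¹⁻¹) * w⁻¹) = zpowers u :=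
    (eq_or_eq_prime (by rw [relIndex_bot_left, card_zpowers_eq (fun e => h.uQ (by simp [e])) h.up])
      bot_le (zpowers_le.2 h2)).resolve_left (by
        rw [zpowers_eq_bot, conj_eq_one_iff, conj_eq_one_iff]; exact x1)
  obtain ⟨i, hi⟩ := e.ge h1
  refine ⟨_, conj_mem_conjS.2 (Q.mul_mem (Q.inv_mem hw) hy), ?_⟩
  have : a * (w⁻¹ * y) * a⁻¹ * (g * x' * g⁻¹) * (a * (w⁻¹ * y) * a⁻¹)⁻¹ =
      a * w⁻¹ * (y * (a⁻¹ * g * x' * (a⁻¹ * g)⁻¹) * y⁻¹) * w * a⁻¹ := by group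
  rw [this, ← hi]
  simp only [conj_zpow]
  convert Z.zpow_mem h.xZ i using 1
  group

theorem nD (h : XB p S Q Z E M a x u) (hB : ∀ y ∈ Q, ⁅u, y⁆ ∈ Z → ⁅u, y⁆ = 1) (hg : g ∈ M)
    (hZ : g ∈ normalizer (Z : Set Γ)) : g ∈ normalizer ((E ⊓ Q : Subgroup Γ) : Set Γ) :=
  Core.mem_normalizer_of_forall_conj_mem fun e he => by_contra fun H => by
    have eE := conj_mem (h.norm hg) he.1
    obtain ⟨d, hd, i, e1⟩ := exists_eq_mul_zpow h.pE inf_le_left h.iD eE H h.uE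
    obtain ⟨r, hr, ζ, hζ, e2⟩ := h.onto hB (E.inv_mem hd.1) (Q.inv_mem hd.2)
    have rM := h.GL' (⟨h.QS hr, (h.b1_str hB).1 hr⟩ : r ∈ normalizerIn S E)
    have e3 : g⁻¹ * r * a * x * (g⁻¹ * r * a)⁻¹ = e ^ i * (g⁻¹ * ζ⁻¹ * g) := by
      have : (g * e * g⁻¹) ^ i = r * u * r⁻¹ * ζ := by
        rw [eq_comm, ← mul_right_inj d, ← e1, ← eq_inv_mul_iff_mul_eq, e2, mul_assoc _ ζ,
          ← (h.com h.uS hζ).eq]
        group
      rw [conj_zpow, ← h.eu] at this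
      rw [show e ^ i = g⁻¹ * (g * e ^ i * g⁻¹) * g by group, this]; group
    have := h.inQ (M.mul_mem (M.mul_mem (M.inv_mem hg) rM) h.aM) h.xZ
      (e3 ▸ Q.mul_mem (Q.zpow_mem he.2 i) (h.ZQ (conj_mem' hZ (Z.inv_mem hζ))))
    refine h.uZ' (mem_of_conj_mem (mul_mem (inv_mem hZ) (h.SnZ (h.QS hr))) ?_)
    convert this using 1
    group

theorem nQ' (h : XB p S Q Z E M a x u) (hB : ∀ y ∈ Q, ⁅u, y⁆ ∈ Z → ⁅u, y⁆ = 1) (hg : g ∈ M)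
    (hZ : g ∈ normalizer (Z : Set Γ)) : g ∈ normalizer (Q : Set Γ) := by
  obtain ⟨nE, -, -, i2⟩ := h.b1_str hB
  have SE : S ≤ normalizer (E : Set Γ) := h.sup_eq h.uS h.uQ ▸
    sup_le nE (zpowers_le.2 (le_normalizer h.uE))
  have hM : Mod p S E M := normalizerIn_eq SE ▸ h.toMod
  have gD := h.nD hB hg hZ
  have e : M ⊓ (cs E (E ⊓ Q) ⊓ (cs (E ⊓ Q) Z ⊓ cs Z ⊥)) = S := hM.syl.eq_of_le
    (hM.isPGroup_of_cent inf_le_left fun z hz hc => mem_centralizer_of_cm fun e he =>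
      mem_bot.1 (cm_trans hc (h.pQ.to_le h.ZQ) bot_le hz.2.2.2.2 (cm_trans hc (h.pX inf_le_left)
        (le_inf h.ZE h.ZQ) hz.2.2.1.2 (hz.2.1.2 e he))))
    (fun s hs => ⟨hM.GL' hs, ⟨le_normalizer_inf SE h.SQ hs, fun e he =>
      ⟨cm_mem_right (SE hs) he, h.cmQ hs (h.ES he)⟩⟩, ⟨h.SnZ hs, fun d hd => by
        obtain ⟨q, hq, e, he, rfl⟩ := h.exists_mul hs
        rw [cm_mul_left, (h.co he hd.1).commutator_eq, mul_one, mul_inv_cancel, one_mul]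
        exact h.cm hq hd.2⟩, norm_bot ⊤ trivial, fun z hz => (h.com hs hz).commutator_eq⟩)
    inf_le_left
  refine h.nQ (e ▸ inf_normalizer_le_normalizer_inf ⟨le_normalizer hg,
    inf_normalizer_le_normalizer_inf ⟨mem_normalizer_cs gD (h.norm hg),
      inf_normalizer_le_normalizer_inf ⟨mem_normalizer_cs hZ gD,
        mem_normalizer_cs (norm_bot ⊤ trivial) hZ⟩⟩⟩) hZ fun R hR iR _ H => ?_
  have := relIndex_le_of_le_left (H := R) (K := E ⊓ Q) (L := Q) (fun r hr => ⟨h.mem (h.QS (hR hr))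
    (commutatorElement_eq_one_iff_commute.1
      (hB r (hR hr) (commutator_le.1 H u h.uS r hr))).symm, hR hr⟩) (relIndex_pos' _ _).ne'
  have := hp.out.one_lt
  nlinarith

theorem com' (h : XB p S Q Z E M a x u) (hy : y ∈ conjS a Q) : Commute y u := by
  obtain ⟨q, hq, rfl⟩ := exists_of_mem_conjS hy
  exact h.eu ▸ (h.com (h.QS hq) h.xZ).conj a

theorem swap (h : XB p S Q Z E M a x u) (hB : ∀ y ∈ Q, ⁅u, y⁆ ∈ Z → ⁅u, y⁆ = 1) (hy : y ∈ Q)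
    (hyE : y ∉ E) : ∃ s ∈ conjS a Q, ∃ t ∈ conjS a Q, s * y * t ∈ M ∧
      conjS (s * y * t) Z = zpowers u ∧ conjS (s * y * t) (zpowers u) = Z := by
  have QM : Q ≤ M := fun q hq => h.GL' ⟨h.QS hq, (h.b1_str hB).1 hq⟩
  have u1 : u ≠ 1 := fun e => h.uQ (by simp [e])
  have key : ∀ y ∈ Q, y ∉ E → ∃ s ∈ conjS a Q, conjS (s * y) (zpowers u) = Z := fun y hy hyE => by
    have e1 : y * a * x * (y * a)⁻¹ = y * u * y⁻¹ := by rw [← h.eu]; group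
    obtain ⟨s, hs, h1⟩ := h.trans2 hB (M.mul_mem (QM hy) h.aM) h.xZ fun H => hyE (h.mem (h.QS hy)
      (commutatorElement_eq_one_iff_commute.1 (h.zp (mul_mem (e1 ▸ H) (inv_mem (mem_zpowers u)))
        (h.cmQ (h.QS hy) h.uS))))
    refine ⟨s, hs, ?_⟩
    rw [e1] at h1
    rw [conjS_def, MonoidHom.map_zpowers, ← h.zpowers_eq h1 (by
      rw [Ne, conj_eq_one_iff, conj_eq_one_iff]; exact u1)]
    simp [mul_assoc]
  have n : ∀ s ∈ conjS a Q, conjS s (zpowers u) = zpowers u := fun s hs =>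
    mem_normalizer_iff_conjS.1 (mem_normalizer_of_cm fun v ⟨i, hi⟩ => by
      rw [← hi, ((h.com' hs).zpow_right i).commutator_eq]; exact one_mem _)
  obtain ⟨s, hs, h1⟩ := key y hy hyE
  obtain ⟨t, ht, h2⟩ := key _ (Q.inv_mem hy) fun H => hyE (inv_mem_iff.1 H)
  have l := conjS_le_of_le_of_mem QM h.aM
  refine ⟨s, hs, t⁻¹, inv_mem ht, M.mul_mem (M.mul_mem (l hs) (QM hy)) (M.inv_mem (l ht)), ?_, ?_⟩
  · rw [← h2, ← conjS_mul, show s * y * t⁻¹ * (t * y⁻¹) = s by group, n s hs]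
  · rw [conjS_mul, n _ (inv_mem ht), h1]

theorem expQ (h : XB p S Q Z E M a x u) (hB : ∀ y ∈ Q, ⁅u, y⁆ ∈ Z → ⁅u, y⁆ = 1) : Q ≤ h.om := by
  by_contra hne
  obtain ⟨nE, -, -, i2⟩ := h.b1_str hB
  have p1 := hp.out.one_lt
  have oQ : h.om ≤ Q := fun _ hy => hy.1
  have iO : h.om.relIndex Q = p := by
    let φ : Q →* Γ := MonoidHom.mk' (fun q => (q : Γ) ^ p) fun a b => h.mul_pow' a.2 b.2
    have e : h.om.subgroupOf Q = φ.ker := by ext q; exact ⟨fun H => H.2, fun H => ⟨q.2, H⟩⟩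
    have : h.om.relIndex Q ≤ p := by
      rw [relIndex, e, index_ker, ← h.cardZ]
      exact card_le_of_le' (by rintro _ ⟨q, rfl⟩; exact h.powZ q.2)
    exact relIndex_eq_prime h.pQ hne (by nlinarith)
  have DO : E ⊓ Q ≤ h.om := fun d hd => ⟨hd.2, h.exp hd.1⟩
  have jO := relIndex_eq_of_mul' DO oQ iO (i2.trans (sq p))
  have hd : ∀ y ∈ Q, ⁅y, u⁆ ∈ E ⊓ Q := fun y hy =>
    ⟨cm_mem_right (nE hy) h.uE, h.cmQ (h.QS hy) h.uS⟩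
  have hZ : ∀ y ∈ Q, ⁅u, y⁆ ∈ Z → y ∈ E := fun y hy H =>
    h.mem (h.QS hy) (commutatorElement_eq_one_iff_commute.1 (hB y hy H)).symm
  have ZD : Z ≤ E ⊓ Q := le_inf h.ZE h.ZQ
  have D'E : conjS a (E ⊓ Q) ≤ E := (conjS_mono inf_le_left).trans (h.conjS_E h.aM).le
  have xD' : x ∉ conjS a (E ⊓ Q) := fun H => h.not_mem_inv h.xZ h.uZ'
    (h.inQ (M.inv_mem h.aM) h.xZ (by simpa using (mem_conjS.1 H).2))
  have ZD' : ∀ z ∈ Z, z ∈ conjS a (E ⊓ Q) → z = 1 := fun z hz H => by_contra fun H' =>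
    xD' ((zpowers_le.2 H) ((h.zpowers_eq hz H').ge h.xZ))
  have iX : ∀ d ∈ E ⊓ Q, d ∉ Z → Z.relIndex (Z ⊔ zpowers d) = p := fun d hd H =>
    relIndex_sup_zpowers (h.SnZ (h.QS hd.2)) H (h.powZ hd.2)
  obtain ⟨y, hy, hyD⟩ := exists_not_mem jO
  have yE : y ∉ E := fun H => hyD ⟨H, hy.1⟩
  obtain ⟨d, dD', i, e1⟩ := exists_eq_mul_zpow h.pE D'E h.iD' (h.ZE h.xZ) xD' (hd y hy.1).1
  have dD : d ∈ E ⊓ Q := (mul_mem_cancel_right (zpow_mem (ZD h.xZ) i)).1 (e1 ▸ hd y hy.1)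
  have dZ : d ∉ Z := fun H => yE (hZ y hy.1 (cm_swap (e1 ▸ Z.mul_mem H (Z.zpow_mem h.xZ i))))
  have XD : Z ⊔ zpowers d ≤ E ⊓ Q := sup_le ZD (zpowers_le.2 dD)
  have ZX : Z ≤ Z ⊔ zpowers d := le_sup_left
  have dX : d ∈ Z ⊔ zpowers d := mem_sup_right (mem_zpowers d)
  have iX0 := iX d dD dZ
  have mX := fun v => mem_sup_zpowers (x := v) (h.SnZ (h.QS dD.2))
  have nX : ∀ k ∈ normalizer (Z : Set Γ), k * ⁅y, u⁆ * k⁻¹ ∈ Z ⊔ zpowers d →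
      k * d * k⁻¹ ∈ Z ⊔ zpowers d := fun k hk H => by
    rw [e1, show k * (d * x ^ i) * k⁻¹ = k * d * k⁻¹ * (k * x ^ i * k⁻¹) by group] at H
    exact (mul_mem_cancel_right (ZX (conj_mem hk (Z.zpow_mem h.xZ i)))).1 H
  have yX : ⁅y, u⁆ ∈ Z ⊔ zpowers d := e1 ▸ mul_mem dX (ZX (Z.zpow_mem h.xZ i))
  set X := Z ⊔ zpowers d
  have QX : Q ≤ normalizer (X : Set Γ) := le_normalizer_of_cm fun q hq v hv => ZX (h.cm hq (XD hv).2)
  have uX : u ∈ normalizer (X : Set Γ) := mem_normalizer_of_cm fun v hv => by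
    rw [(h.ucom (XD hv).1).symm.commutator_eq]; exact one_mem _
  have c1 : ∀ w ∈ h.om, ⁅u, w⁆ ∈ X := sup_zpowers_eq DO jO hy hyD ▸
    cm_sup_zpowers (inf_le_right.trans QX) (QX hy.1)
      (fun v hv => by rw [(h.ucom hv.1).symm.commutator_eq]; exact one_mem _) (cm_swap yX)
  have c2 : ∀ w ∈ Q, ⁅u, w⁆ ∈ X → w ∈ h.om := fun w hw H => by
    rcases eq_or_eq_prime iO (W := Q ⊓ cmSub u X) (fun v hv => ⟨hv.1, QX hv.1, c1 v hv⟩)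
      inf_le_left with e | e
    · exact e.le ⟨hw, QX hw, H⟩
    · have h1 := relIndex_cmSub_le (h.QS.trans h.SnZ) fun r hr => (e.ge hr).2.2
      have h2 := relIndex_le_of_le_left (H := Q ⊓ cmSub u Z) (K := E ⊓ Q) (L := Q)
        (fun v hv => ⟨hZ v hv.1 hv.2.2, hv.1⟩) (relIndex_pos' _ _).ne'
      rw [inf_relIndex_left] at h2
      nlinarith
  have sw : ∀ n ∈ M, conjS n Z = zpowers u → conjS n (zpowers u) = Z →
      conjS n (E ⊓ Q) = conjS a (E ⊓ Q) ∧ conjS n (conjS a (E ⊓ Q)) = E ⊓ Q := fun n hn e e' => by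
    have h1 := mem_normalizer_iff_conjS.1 (h.nD hB (M.mul_mem (M.inv_mem h.aM) hn)
      (mem_normalizer_iff_conjS.2 (by rw [conjS_mul, e, ← h.eZ', conjS_inv_conjS])))
    have h2 := mem_normalizer_iff_conjS.1 (h.nD hB (M.mul_mem hn h.aM)
      (mem_normalizer_iff_conjS.2 (by rw [conjS_mul, h.eZ', e'])))
    rw [conjS_mul] at h1 h2
    exact ⟨by rw [← conjS_conjS_inv a (conjS n _), h1], h2⟩
  obtain ⟨s₀, -, t₀, -, n1, n2, n3⟩ := h.swap hB hy.1 yE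
  generalize s₀ * y * t₀ = n at n1 n2 n3
  obtain ⟨n4, n5⟩ := sw n n1 n2 n3
  have d1 : n * d * n⁻¹ ∈ E ⊓ Q := n5 ▸ conj_mem_conjS.2 dD'
  have d2 : n * d * n⁻¹ ∈ conjS a (E ⊓ Q) := n4 ▸ conj_mem_conjS.2 dD
  have d3 : n * d * n⁻¹ ∉ Z := fun H => dZ (conj_eq_one_iff.1 (ZD' _ H d2) ▸ Z.one_mem)
  have key : ∀ w ∈ Q, w ∉ E → ∃ b j : ℤ, ⁅w, u⁆ ^ b * ⁅w, d⁆ * d = (n * d * n⁻¹) ^ j :=
    fun w hw hwE => by
      obtain ⟨s, hs, t, ht, m1, m2, m3⟩ := h.swap hB hw hwE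
      have cu : ∀ s ∈ conjS a Q, ∀ e ∈ conjS a (E ⊓ Q), ⁅s, e⁆ ∈ zpowers u := fun s hs e he =>
        commutator_le.1 (by rw [← conjS_commutator, ← h.eZ', ← h.cQ]
                            exact conjS_mono (commutator_mono le_rfl inf_le_right)) s hs e he
      have k1 : n⁻¹ * (s * w * t) ∈ normalizer (Z : Set Γ) := mem_normalizer_iff_conjS.2 (by
        rw [conjS_mul, m2, ← n2, conjS_inv_conjS])
      have k2 : n⁻¹ * (s * w * t) ∈ normalizer (zpowers u : Set Γ) := mem_normalizer_iff_conjS.2 (by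
        rw [conjS_mul, m3, ← n3, conjS_inv_conjS])
      have k3 := h.nQ' hB (M.mul_mem (M.inv_mem n1) m1) k1
      have k4 : n⁻¹ * (s * w * t) * d * (n⁻¹ * (s * w * t))⁻¹ ∈ conjS a (E ⊓ Q) := by
        have : s * w * t * d * (s * w * t)⁻¹ ∈ E ⊓ Q := (sw _ m1 m2 m3).2 ▸ conj_mem_conjS.2 dD'
        rw [← n5, mem_conjS] at this
        convert this using 1
        group
      obtain ⟨ζ, hζ, j, e2⟩ := (mX _).1 (nX _ k1 (by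
        obtain ⟨l, hl⟩ := conj_mem k2 (mem_zpowers u)
        rw [conjugate_commutatorElement, ← hl]
        exact cm_zpow_right uX (cm_swap (c1 _ (conj_mem (h.n_om k3) hy))) l))
      rw [ZD' ζ hζ ((mul_mem_cancel_right (zpow_mem dD' j)).1 (e2 ▸ k4)), one_mul] at e2
      obtain ⟨b, hb⟩ := cu t ht d dD'
      obtain ⟨c, hc⟩ := cu _ (inv_mem hs) _ (zpow_mem d2 j)
      have e3 : ⁅w, u⁆ ^ b * ⁅w, d⁆ * d * u ^ b = u ^ c * (n * d * n⁻¹) ^ j := by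
        have e4 : w * (u ^ b * d) * w⁻¹ = u ^ c * (n * d * n⁻¹) ^ j := by
          simp only at hb hc
          rw [hb, hc, conj_zpow, ← e2]; group
        rw [← e4, show w * (u ^ b * d) * w⁻¹ = (⁅w, u⁆ * u) ^ b * (⁅w, d⁆ * d) by
          rw [show ⁅w, u⁆ * u = w * u * w⁻¹ by group, conj_zpow]; group,
          (h.ucom (hd w hw).1).mul_zpow, mul_assoc, mul_assoc, mul_assoc, ← mul_assoc _ d,
          ((h.ucom (E.mul_mem (h.ZE (h.cm hw dD.2)) dD.1)).zpow_right b).eq]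
      have e5 : u ^ (c - b) = ⁅w, u⁆ ^ b * ⁅w, d⁆ * d * ((n * d * n⁻¹) ^ j)⁻¹ := by
        rw [eq_mul_inv_iff_mul_eq, ← mul_left_inj (u ^ b), e3, mul_assoc,
          ((h.ucom (E.zpow_mem d1.1 j)).zpow_right b).eq, ← mul_assoc, ← zpow_add, sub_add_cancel]
      refine ⟨b, j, mul_inv_eq_one.1 (e5 ▸ h.zp (zpow_mem_zpowers u _) (e5 ▸ ?_))⟩
      exact Q.mul_mem (Q.mul_mem (Q.mul_mem (Q.zpow_mem (hd w hw).2 b) (h.ZQ (h.cm hw dD.2))) dD.2)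
        (Q.inv_mem (Q.zpow_mem d1.2 j))
  have d4 : n * d * n⁻¹ ∈ X := by
    obtain ⟨r, hr, ζ, hζ, e2⟩ := h.onto hB d1.1 d1.2
    obtain ⟨b, j, e3⟩ := key r hr fun H => d3 (by
      rwa [e2, (h.ucom H).commutator_eq, one_mul])
    have h1 : n * d * n⁻¹ ∈ Z ⊔ zpowers (n * d * n⁻¹) := mem_sup_right (mem_zpowers _)
    have h2 : ⁅r, u⁆ ∈ Z ⊔ zpowers (n * d * n⁻¹) :=
      (mul_mem_cancel_right (mem_sup_left hζ)).1 (e2 ▸ h1)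
    exact (sup_zpowers_eq le_sup_left (iX _ d1 d3) ((mul_mem_cancel_left (mul_mem (zpow_mem h2 b)
      (mem_sup_left (h.cm hr dD.2)))).1 (e3 ▸ zpow_mem h1 j)) dZ).ge h1
  have fin : ∀ w ∈ Q, w ∉ h.om → ⁅w, d⁆ = 1 := fun w hw H => by
    obtain ⟨b, j, e3⟩ := key w hw fun H' => H (DO ⟨H', hw⟩)
    have h1 : ⁅w, u⁆ ^ b ∈ X := (mul_mem_cancel_right (ZX (h.cm hw dD.2))).1
      ((mul_mem_cancel_right dX).1 (e3 ▸ X.zpow_mem d4 j))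
    obtain ⟨l, hl⟩ : (p : ℤ) ∣ b := by_contra fun H' => H (c2 w hw (cm_swap
      (mem_of_zpow_mem (pg_zpowers h.pE (hd w hw).1) H' h1)))
    rw [hl, zpow_mul, zpow_natCast, h.exp (hd w hw).1, one_zpow, one_mul] at e3
    exact ZD' _ (h.cm hw dD.2) ((mul_mem_cancel_right dD').1 (e3 ▸ zpow_mem d2 j))
  obtain ⟨w, hw, hwO⟩ := exists_not_mem iO
  refine dZ (h.mem_Z dD.2 fun q hq => mem_bot.1 (cm_swap (mem_bot.2 ?_)))
  by_cases H : q ∈ h.om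
  · have := fin _ (Q.mul_mem hq hw) fun H' => hwO ((mul_mem_cancel_left H).1 H')
    rwa [cm_mul_left, fin w hw hwO, mul_one, mul_inv_cancel, one_mul] at this
  · exact fin q hq H

theorem b1 (h : XB p S Q Z E M a x u) (hB : ∀ y ∈ Q, ⁅u, y⁆ ∈ Z → ⁅u, y⁆ = 1) :
    XCfg p S Q u ∧ Nat.card (Q ⊓ centralizer {u} : Subgroup Γ) = p ^ 3 := by
  obtain ⟨-, c5, c3, -⟩ := h.b1_str hB
  refine ⟨⟨h.QS, by rw [card_eq_of_relIndex h.QS c5 h.iQ]; ring, h.extra, c5,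
    fun q hq => (h.expQ hB hq).2, h.uS, h.uQ, h.up, fun y hy H =>
      hB y hy (h.eZ ▸ ⟨h.cmQ h.uS (h.QS hy), H⟩)⟩, ?_⟩
  rw [← c3]
  congr 2
  exact le_antisymm (fun y hy => ⟨h.mem (h.QS hy.1) (mem_centralizer_singleton_iff.1 hy.2), hy.1⟩)
    fun y hy => ⟨hy.2, mem_centralizer_singleton_iff.2 (h.ucom hy.1)⟩

end XB

end CfsgLib.Fus3
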