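import Mathlib
import Cfsg.Agent.Lib.Fus3.Defs
import Cfsg.Agent.Lib.Fusion.RankTwo
import Cfsg.Agent.Lib.TB.Baer

/-! Linear coordinates on `Q` (the Baer correspondence) and embeddings of `G = Q ⋊ ⟨w⟩`. -/

set_option autoImplicit false

namespace CfsgLib.Fus3

open Subgroup Cfsg CfsgLib.Fusion CfsgLib.TB Module
open scoped commutatorElement

universe u

variable {Γ : Type u} [Group Γ] {p : ℕ} [hp : Fact p.Prime] {G Q : Subgroup Γ} {w : Γ}

theorem XCfg.w_norm (h : XCfg p G Q w) : w ∈ normalizer (Q : Set Γ) := by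
  have hfin : Finite G := Nat.finite_of_card_ne_zero (by rw [h.cardG]; exact (pow_pos hp.out.pos 6).ne')
  have hidx : (Q.subgroupOf G).index = p := by
    have := CfsgLib.Core.card_mul_relIndex_of_le h.Q_le
    rw [h.cardG, h.cardQ, pow_succ p 5] at this
    exact Nat.eq_of_mul_eq_mul_left (pow_pos hp.out.pos 5) this
  exact (normal_subgroupOf_iff_le_normalizer h.Q_le).1
    (CfsgLib.PGroup.normal_of_index_eq_prime (IsPGroup.of_card h.cardG) hidx) h.w_mem

/-- `e` identifies `Q` with a vector space `W`, the group law being `x + y + B x y • z`, and `w`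
acts as the linear map `1 + D`. -/
structure XLin (Q : Subgroup Γ) (w : Γ) {W : Type*} [AddCommGroup W] [Module (ZMod p) W]
    (e : W → Γ) (z : W) (B : W →ₗ[ZMod p] W →ₗ[ZMod p] ZMod p) (D : Module.End (ZMod p) W) : Prop where
  card : Nat.card W = p ^ 5
  mem : ∀ x, e x ∈ Q
  inj : Function.Injective e
  surj : ∀ y ∈ Q, ∃ x, e x = y
  mul : ∀ x y, e x * e y = e (x + y + B x y • z)
  conj : ∀ x, w * e x * w⁻¹ = e (x + D x)
  alt : ∀ x, B x x = 0
  z_ne : z ≠ 0
  Bz : B z = 0
  rad : ∀ x, B x = 0 → ∃ c : ZMod p, x = c • z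
  Dz : D z = 0
  inv : ∀ x y, B (D x) y + B x (D y) + B (D x) (D y) = 0
  Dp : D ^ p = 0
  split : ∀ x (c : ZMod p), D x = c • z → D x = 0
  ker : Nat.card (LinearMap.ker D) = Nat.card (Q ⊓ centralizer {w} : Subgroup Γ)

theorem XCfg.exists_lin (h : XCfg p G Q w) (h2 : p ≠ 2) :
    ∃ (W : Type u) (_ : AddCommGroup W) (_ : Module (ZMod p) W) (e : W → Γ) (z : W)
      (B : W →ₗ[ZMod p] W →ₗ[ZMod p] ZMod p) (D : Module.End (ZMod p) W), XLin Q w e z B D := by
  have hfin : Finite Q := Nat.finite_of_card_ne_zero (by rw [h.cardQ]; exact (pow_pos hp.out.pos 5).ne')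
  obtain ⟨m, hm'⟩ := hp.out.odd_of_ne_two h2
  have hc : commutator Q ≤ center Q := h.extra.1.2.2.le
  have hx : ∀ x : Q, x ^ p = 1 := fun x => Subtype.ext (h.expQ x x.2)
  have hm : ∀ x : Q, x ^ (2 * (m + 1)) = x := fun x => by
    rw [show 2 * (m + 1) = p + 1 by omega, pow_succ, hx, one_mul]
  have cm := Baer.comm_commutatorElement hc
  obtain ⟨z₀, hz₀, hzo, hzZ⟩ : ∃ z₀ ∈ center Q, orderOf z₀ = p ∧ ∀ c ∈ center Q, c ∈ zpowers z₀ := by
    have := isCyclic_of_prime_card h.extra.2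
    obtain ⟨g, hg⟩ := IsCyclic.exists_generator (α := center Q)
    refine ⟨g, g.2, ?_, fun c hc => ?_⟩
    · rw [orderOf_coe, orderOf_eq_card_of_forall_mem_zpowers hg, h.extra.2]
    · obtain ⟨i, hi⟩ := hg ⟨c, hc⟩
      exact ⟨i, congrArg Subtype.val hi⟩
  obtain ⟨W, _, _, v, vadd, vn⟩ : ∃ (W : Type u) (_ : AddCommGroup W) (_ : Module (ZMod p) W) (v : W ≃ Q),
      (∀ x y, v (x + y) = ⁅v y, v x⁆ ^ (m + 1) * (v x * v y)) ∧ ∀ (k : ℕ) x, v (k • x) = v x ^ k :=
    ⟨Additive (Baer Q (m + 1) hc hm), inferInstance,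
      AddCommGroup.zmodModule fun x => Baer.ext ((Baer.val_pow _ _).trans (hx _)),
      Additive.toMul.trans Baer.equiv, fun _ _ => rfl, fun k x => Baer.val_pow _ _⟩
  have vi := v.injective
  have v0 : v 0 = 1 := by simpa using vn 0 0
  have vs : ∀ (c : ZMod p) x, v (c • x) = zpw (v x) c := fun c x => by
    obtain ⟨k, rfl⟩ := ZMod.natCast_zmod_surjective c
    rw [Nat.cast_smul_eq_nsmul, vn, zpw_natCast (hx _)]
  obtain ⟨z, rfl⟩ := v.surjective z₀
  have vz : ∀ (c : ZMod p) x, v (x + c • z) = v x * zpw (v z) c := fun c x => by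
    rw [vadd, vs, commutatorElement_eq_one_iff_commute.2
      (Commute.symm (mem_center_iff.1 (zpw_mem hz₀ c) _)), one_pow, one_mul]
  have hb : ∀ x y : W, ∃ c : ZMod p, zpw (v z) c = ⁅v x, v y⁆ ^ (m + 1) := fun x y =>
    (mem_zpowers_iff_zpw (hx _)).1 (hzZ _ (pow_mem (hc (commutator_mem_commutator (mem_top _) (mem_top _))) _))
  choose b hb using hb
  have bl : ∀ x x' y, b (x + x') y = b x y + b x' y := fun x x' y => zpw_inj hzo (by
    rw [zpw_add (hx _), hb, hb, hb, vadd, Core.commutatorElement_mul_left_of_commute (cm _ _ _),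
      Core.commutatorElement_mul_left_of_commute (cm _ _ _),
      commutatorElement_eq_one_iff_commute.2 ((cm _ _ _).pow_right _).symm, mul_one, (cm _ _ _).symm.eq,
      (cm _ _ _).mul_pow])
  have br : ∀ x y y', b x (y + y') = b x y + b x y' := fun x y y' => zpw_inj hzo (by
    rw [zpw_add (hx _), hb, hb, hb, vadd, Core.commutatorElement_mul_right_of_commute (cm _ _ _),
      Core.commutatorElement_mul_right_of_commute (cm _ _ _),
      commutatorElement_eq_one_iff_commute.2 ((cm _ _ _).pow_right _), one_mul, (cm _ _ _).mul_pow])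
  let B : W →ₗ[ZMod p] W →ₗ[ZMod p] ZMod p := LinearMap.mk₂ (ZMod p) b bl
    (fun c x y => ZMod.map_smul (AddMonoidHom.mk' (fun x => b x y) fun x x' => bl x x' y) c x) br
    fun c x y => ZMod.map_smul (AddMonoidHom.mk' (b x) (br x)) c y
  have hB : ∀ x y, B x y = b x y := fun _ _ => rfl
  have b0 : ∀ x y, b x y = 0 ↔ Commute (v x) (v y) := fun x y => by
    rw [← zpw_eq_one_iff hzo, hb, ← commutatorElement_eq_one_iff_commute]
    refine ⟨fun e => ?_, fun e => by rw [e, one_pow]⟩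
    rw [← hm ⁅v x, v y⁆, mul_comm 2, pow_mul, e, one_pow]
  let τ : Q ≃* Q := Q.normalizerMonoidHom ⟨w, h.w_norm⟩
  have hτ : ∀ y : Q, (τ y : Γ) = w * y * w⁻¹ := fun _ => rfl
  obtain ⟨g, vg⟩ : ∃ g : Module.End (ZMod p) W, ∀ x, v (g x) = τ (v x) :=
    ⟨(AddMonoidHom.mk' (fun x => v.symm (τ (v x))) fun x y => vi (by
      simp only [vadd, Equiv.apply_symm_apply, map_mul, map_pow, map_commutatorElement])).toZModLinearMap p,
      fun x => v.apply_symm_apply _⟩
  have hg : ∀ x, x + (g - 1) x = g x := fun x => by simp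
  have fix : ∀ x, (g - 1) x = 0 ↔ Commute w (v x) := fun x => by
    rw [LinearMap.sub_apply, sub_eq_zero, ← vi.eq_iff, vg, Subtype.ext_iff, hτ, mul_inv_eq_iff_eq_mul]
    rfl
  have cen : ∀ c ∈ center Q, (c : Γ) ∈ centralizer (Q : Set Γ) := fun c hc y hy =>
    congrArg Subtype.val (mem_center_iff.1 hc ⟨y, hy⟩)
  have wz : Commute w (v z) := commutatorElement_eq_one_iff_commute.1 (h.split _ (v z).2 (by
    have := cen _ (mul_mem (((characteristic_iff_map_le.1 inferInstance) τ) ⟨_, hz₀, rfl⟩) (inv_mem hz₀))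
    exact this))
  have τz : τ (v z) = v z := Subtype.ext (by rw [hτ, wz.eq, mul_inv_cancel_right])
  have z0 : z ≠ 0 := fun e => by
    rw [e, v0, orderOf_one] at hzo
    exact hp.out.one_lt.ne hzo
  have : Nontrivial W := ⟨z, 0, z0⟩
  refine ⟨W, inferInstance, inferInstance, fun x => v x, z, B, g - 1,
    (Nat.card_congr v).trans h.cardQ, fun x => (v x).2, fun x y e => vi (Subtype.ext e),
    fun y hy => ⟨v.symm ⟨y, hy⟩, by simp⟩, fun x y => ?_, fun x => by rw [hg, vg, hτ],
    fun x => (b0 x x).2 (Commute.refl _), z0,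
    LinearMap.ext fun y => (b0 z y).2 (mem_center_iff.1 hz₀ _).symm, fun x e => ?_,
    (fix z).2 wz, fun x y => ?_, ?_, fun x c e => (fix x).2 ?_, ?_⟩
  · rw [← coe_mul, vz, hB, hb, vadd, ← commutatorElement_inv (v x), inv_pow, mul_assoc,
      ((cm _ _ _).pow_right _).eq, inv_mul_cancel_left]
  · obtain ⟨c, hc⟩ := (mem_zpowers_iff_zpw (hx _)).1 (hzZ (v x) (mem_center_iff.2 fun y => by
      obtain ⟨y, rfl⟩ := v.surjective y
      exact ((b0 x y).1 (LinearMap.congr_fun e _)).symm))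
    exact ⟨c, vi (by rw [vs]; exact hc.symm)⟩
  · have : B (g x) (g y) = B x y := zpw_inj hzo (by
      rw [hB, hB, hb, vg, vg, ← map_commutatorElement, ← map_pow, ← hb, map_zpw, τz])
    rw [← hg x, ← hg y] at this
    simp only [map_add, LinearMap.add_apply] at this
    linear_combination this
  · have : CharP (Module.End (ZMod p) W) p := charP_of_injective_algebraMap' (ZMod p) p
    have hk : ∀ (k : ℕ) x, (v ((g ^ k) x) : Γ) = w ^ k * v x * (w ^ k)⁻¹ := fun k => by
      induction k with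
      | zero => intro x; simp
      | succ k ih => intro x; rw [pow_succ', Module.End.mul_apply, vg, hτ, ih, pow_succ']; group
    rw [sub_pow_char_of_commute _ (Commute.one_right g), one_pow, sub_eq_zero]
    exact LinearMap.ext fun x => vi (Subtype.ext (by rw [hk, h.wp]; simp))
  · refine commutatorElement_eq_one_iff_commute.1 (h.split _ (v x).2 ?_)
    have e1 := congrArg Subtype.val ((vg x).symm.trans ((congrArg v ((hg x).symm.trans
      (congrArg (x + ·) e))).trans (vz c x)))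
    have hz := zpw_mem hz₀ c
    rw [hτ, mem_center_iff.1 hz, coe_mul] at e1
    rw [commutatorElement_def, e1, mul_inv_cancel_right]
    exact cen _ hz
  · exact Nat.card_congr
      { toFun := fun x => ⟨v x.1, (v x.1).2, mem_centralizer_singleton_iff.2 ((fix _).1 x.2).symm⟩
        invFun := fun y => ⟨v.symm ⟨y.1, y.2.1⟩, (fix _).2 (by
          rw [Equiv.apply_symm_apply]; exact Commute.symm (mem_centralizer_singleton_iff.1 y.2.2))⟩
        left_inv := fun _ => by simp
        right_inv := fun _ => by simp }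

theorem xco_inj {ι H : Type*} [Group H] {M : ι → H} {w : H} (wp : w ^ p = 1) (K : Subgroup H)
    (mem : ∀ x, M x ∈ K) (hn : w ∉ K) (inj : Function.Injective M) :
    Function.Injective fun a : ι × ZMod p => M a.1 * zpw w a.2 := by
  intro ⟨x, k⟩ ⟨y, l⟩ e
  have e : M x * zpw w k = M y * zpw w l := e
  obtain rfl : k = l := by
    by_contra hkl
    have h1 : zpw w (k - l) ∈ K := by
      rw [sub_eq_add_neg, zpw_add wp, zpw_neg wp, eq_inv_mul_of_mul_eq e, mul_assoc, mul_assoc,
        mul_inv_cancel, mul_one]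
      exact mul_mem (inv_mem (mem x)) (mem y)
    have h2 := zpw_mem h1 (k - l)⁻¹
    rw [zpw_zpw wp, mul_inv_cancel₀ (sub_ne_zero.2 hkl), zpw_one wp] at h2
    exact hn h2
  rw [inj (mul_right_cancel e)]

theorem xco_law {ι H : Type*} [Group H] {M : ι → H} {w : H} {μ : ι → ι → ι} {γ : ι → ι}
    (wp : w ^ p = 1) (hM : ∀ x y, M x * M y = M (μ x y)) (hw : ∀ x, w * M x * w⁻¹ = M (γ x))
    (x : ι) (k : ℕ) (y : ι) (l : ZMod p) :
    M x * zpw w (k : ZMod p) * (M y * zpw w l) = M (μ x (γ^[k] y)) * zpw w ((k : ZMod p) + l) := by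
  have : ∀ k : ℕ, w ^ k * M y * (w ^ k)⁻¹ = M (γ^[k] y) := fun k => by
    induction k with
    | zero => simp
    | succ k ih => rw [Function.iterate_succ_apply', ← hw, ← ih, pow_succ']; group
  rw [← hM, ← this, zpw_add wp, zpw_natCast wp]
  group

/-- A map `M` with the same multiplication law `μ` and conjugation law `γ` extends to an embedding. -/
theorem XCfg.exists_inj (h : XCfg p G Q w) {ι : Type*} {H : Type*} [Group H] {e : ι → Γ}
    {M : ι → H} {w' : H} {μ : ι → ι → ι} {γ : ι → ι} (mem : ∀ x, e x ∈ Q)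
    (inj : Function.Injective e) (surj : ∀ y ∈ Q, ∃ x, e x = y)
    (he : ∀ x y, e x * e y = e (μ x y)) (hwe : ∀ x, w * e x * w⁻¹ = e (γ x))
    (hM : ∀ x y, M x * M y = M (μ x y)) (hwM : ∀ x, w' * M x * w'⁻¹ = M (γ x))
    (hw' : w' ^ p = 1) (injM : Function.Injective M) (hn : ∀ x, M x ≠ w') :
    ∃ Ψ : G →* H, Function.Injective Ψ := by
  have hfin : Finite G := Nat.finite_of_card_ne_zero (by rw [h.cardG]; exact (pow_pos hp.out.pos 6).ne')
  have hι : Nat.card ι = p ^ 5 := h.cardQ ▸ Nat.card_congr (Equiv.ofBijective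
    (fun x => (⟨e x, mem x⟩ : Q)) ⟨fun x y e => inj (congrArg Subtype.val e),
      fun y => (surj y y.2).imp fun _ => Subtype.ext⟩)
  let σ : ι × ZMod p ≃ G := Equiv.ofBijective
    (fun a => ⟨e a.1 * zpw w a.2, mul_mem (h.Q_le (mem _)) (zpw_mem h.w_mem _)⟩)
    ((Nat.bijective_iff_injective_and_card _).2 ⟨fun a b e =>
      xco_inj h.wp Q mem h.w_not inj (congrArg Subtype.val e), by
        rw [Nat.card_prod, hι, h.cardG, Nat.card_zmod, ← pow_succ]⟩)
  have hσ : ∀ a, (σ a : Γ) = e a.1 * zpw w a.2 := fun _ => rfl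
  let K : Subgroup H :=
    { carrier := Set.range M
      mul_mem' := by rintro _ _ ⟨x, rfl⟩ ⟨y, rfl⟩; exact ⟨_, (hM x y).symm⟩
      one_mem' := by
        obtain ⟨x, hx⟩ := surj 1 Q.one_mem
        have := hM x x
        rw [show μ x x = x from inj (by rw [← he, hx, mul_one])] at this
        exact ⟨x, mul_eq_left.1 this⟩
      inv_mem' := by
        rintro _ ⟨x, rfl⟩
        obtain ⟨y, hy⟩ := surj _ (inv_mem (mem x))
        obtain ⟨o, ho⟩ := surj 1 Q.one_mem
        have h1 := hM o o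
        rw [show μ o o = o from inj (by rw [← he, ho, mul_one])] at h1
        have h2 := hM x y
        rw [show μ x y = o from inj (by rw [← he, hy, ho, mul_inv_cancel]), mul_eq_left.1 h1] at h2
        exact ⟨y, eq_inv_of_mul_eq_one_right h2⟩ }
  refine ⟨MonoidHom.mk' (fun g => M (σ.symm g).1 * zpw w' (σ.symm g).2) fun a b => ?_,
    (xco_inj hw' K (fun x => ⟨x, rfl⟩) (fun ⟨x, hx⟩ => hn x hx) injM).comp σ.symm.injective⟩
  obtain ⟨⟨x, k⟩, rfl⟩ := σ.surjective a
  obtain ⟨⟨y, l⟩, rfl⟩ := σ.surjective b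
  obtain ⟨k, rfl⟩ := ZMod.natCast_zmod_surjective k
  have : σ (x, k) * σ (y, l) = σ (μ x (γ^[k] y), k + l) := Subtype.ext (xco_law h.wp he hwe x k y l)
  simp only [this, Equiv.symm_apply_apply]
  exact (xco_law hw' hM hwM x k y l).symm

theorem XCfg.exists_sylow (h : XCfg p G Q w) {H : Type*} [Group H] [Finite H] {Ψ : G →* H}
    (hΨ : Function.Injective Ψ) (hH : (Nat.card H).factorization p ≤ 6) :
    ∃ P : Sylow p H, Nonempty (G ≃* (P : Subgroup H)) := by
  have e := MonoidHom.ofInjective hΨ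
  have hc : Nat.card Ψ.range = p ^ 6 := by rw [← Nat.card_congr e.toEquiv, h.cardG]
  refine ⟨Sylow.ofCard Ψ.range ?_, ⟨e⟩⟩
  rw [hc, le_antisymm hH ((hp.out.pow_dvd_iff_le_factorization Nat.card_pos.ne').1
    (hc ▸ card_subgroup_dvd_card _))]

end CfsgLib.Fus3
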