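import Mathlib
import Cfsg.Prelude.Def_G2
import Cfsg.Agent.Lib.Fus3.XCo
import Cfsg.Agent.Lib.Syl2EA.G2Ord

/-! The case of one Jordan block: a Sylow subgroup of `G₂(p)`. -/

set_option autoImplicit false

namespace CfsgLib.Fus3

open Subgroup Cfsg Module CfsgLib.Syl2EA Cfsg.Lie

section Model

variable {F : Type*} [Field F]

/-- The multiplication law of the unipotent radical in exponential coordinates. -/
def g2μ (u v : F × F × F × F × F) : F × F × F × F × F :=
  (u.1 + v.1, u.2.1 + v.2.1, u.2.2.1 + v.2.2.1, u.2.2.2.1 + v.2.2.2.1, u.2.2.2.2 + v.2.2.2.2 +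
    (-2 * (u.1 * v.2.1 - u.2.1 * v.1) - 12 * (u.1 * v.2.2.1 - u.2.2.1 * v.1) -
      12 * (u.1 * v.2.2.2.1 - u.2.2.2.1 * v.1) + 12 * (u.2.1 * v.2.2.1 - u.2.2.1 * v.2.1)))

/-- The action of the short simple root element. -/
def g2γ (u : F × F × F × F × F) : F × F × F × F × F :=
  (u.1, u.1 + u.2.1, u.2.1 + u.2.2.1, u.2.2.1 + u.2.2.2.1, u.2.2.2.2)

/-- The elements of the unipotent radical. -/
def g2f (a b c d e : F) (x : Fin 8 → F) : Fin 8 → F :=
  ![-2 * b * x 3 + 2 * b * x 4 - 4 * c * x 3 + x 0,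
    -2 * a * b * x 3 + 4 * a * b * x 4 - 12 * a * c * x 3 + 8 * a * c * x 4 - 12 * a * d * x 3 +
      2 * a * x 2 + 4 * b * c * x 3 - 2 * b * x 0 - 2 * b * x 5 + 2 * b * x 7 + 2 * b ^ 2 * x 3 -
      4 * b ^ 2 * x 4 - 4 * c * x 5 + e * x 3 + x 1,
    -2 * b * x 3 + 2 * b * x 4 - 12 * c * x 3 + 4 * c * x 4 - 12 * d * x 3 + x 2, x 3, x 4,
    -2 * a * x 4 + 2 * b * x 3 + x 5,
    -2 * a * b * x 4 - 12 * a * c * x 4 - 12 * a * d * x 4 + 8 * b * c * x 3 + 4 * b * c * x 4 +
      24 * b * d * x 3 + 2 * b * x 0 - 2 * b * x 2 + 2 * b * x 5 - 2 * b * x 7 + 2 * b ^ 2 * x 4 +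
      4 * c * x 0 + 12 * c * x 5 - 4 * c * x 7 - 16 * c ^ 2 * x 3 + 12 * d * x 5 - e * x 4 + x 6,
    2 * b * x 3 - 2 * b * x 4 + 4 * c * x 3 + x 7]

/-- As linear maps. -/
def g2L (u : F × F × F × F × F) : (Fin 8 → F) →ₗ[F] (Fin 8 → F) where
  toFun := g2f u.1 u.2.1 u.2.2.1 u.2.2.2.1 u.2.2.2.2
  map_add' x y := by apply ext8 <;> simp [g2f] <;> ring
  map_smul' r x := by apply ext8 <;> simp [g2f] <;> ring

theorem g2L_apply (u : F × F × F × F × F) (x : Fin 8 → F) :
    g2L u x = g2f u.1 u.2.1 u.2.2.1 u.2.2.2.1 u.2.2.2.2 x := rfl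

theorem g2L_mul (u v : F × F × F × F × F) (x : Fin 8 → F) : g2L u (g2L v x) = g2L (g2μ u v) x := by
  apply ext8 <;> simp [g2L_apply, g2f, g2μ] <;> ring

theorem g2L_neg (u : F × F × F × F × F) (x : Fin 8 → F) : g2L u (g2L (-u) x) = x := by
  apply ext8 <;> simp [g2L_apply, g2f] <;> ring

theorem g2L_zorn (u : F × F × F × F × F) (x y : Fin 8 → F) :
    g2L u (zornMul x y) = zornMul (g2L u x) (g2L u y) := by
  apply ext8 <;> simp [g2L_apply, g2f, zornMul_eq] <;> ring

theorem zT_g2L (u : F × F × F × F × F) (x : Fin 8 → F) :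
    zT 0 1 0 (g2L u x) = g2L (g2γ u) (zT 0 1 0 x) := by
  apply ext8 <;> simp [g2L_apply, g2f, g2γ, zT_apply] <;> ring

theorem zT_add (s t : F) (x : Fin 8 → F) : zT 0 s 0 (zT 0 t 0 x) = zT 0 (s + t) 0 x := by
  apply ext8 <;> simp [zT_apply] <;> ring

/-- As automorphisms of the octonions. -/
def g2M (u : F × F × F × F × F) : zAut F :=
  ⟨LinearEquiv.ofLinearMap (g2L u) (g2L (-u)) (LinearMap.ext (g2L_neg u))
    (LinearMap.ext fun x => by simpa using g2L_neg (-u) x), g2L_zorn u⟩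

theorem g2M_apply (u : F × F × F × F × F) (x : Fin 8 → F) : (g2M u).1 x = g2L u x := rfl

theorem g2M_injective (h2 : (2 : F) ≠ 0) (h3 : (3 : F) ≠ 0) : Function.Injective (g2M (F := F)) := by
  rintro ⟨a, b, c, d, e⟩ ⟨a', b', c', d', e'⟩ h
  have h' : ∀ x i, g2f a b c d e x i = g2f a' b' c' d' e' x i := fun x i =>
    congrFun (congrArg (fun g : zAut F => g.1 x) h) i
  have h12 : (12 : F) ≠ 0 := by
    rw [show (12 : F) = 2 * 2 * 3 by norm_num]; exact mul_ne_zero (mul_ne_zero h2 h2) h3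
  have h4 : (4 : F) ≠ 0 := by rw [show (4 : F) = 2 * 2 by norm_num]; exact mul_ne_zero h2 h2
  obtain rfl : a = a' := by simpa [g2f, h2] using h' (Pi.single 2 1) 1
  obtain rfl : b = b' := by simpa [g2f, h2] using h' (Pi.single 4 1) 0
  obtain rfl : c = c' := by simpa [g2f, h4] using h' (Pi.single 3 1) 7
  obtain rfl : d = d' := by simpa [g2f, h12] using h' (Pi.single 3 1) 2
  obtain rfl : e = e' := by simpa [g2f] using h' (Pi.single 3 1) 1
  rfl

/-- The two models of the automorphism group. -/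
noncomputable def g2Equiv (F : Type*) [Field F] : G2 F ≃* zAut F :=
  (Forms.glEquiv.subgroupMap (G2 F)).trans (MulEquiv.subgroupCongr (by
    ext g
    refine ⟨fun ⟨x, hx, h⟩ => h ▸ hx, fun h => ?_⟩
    obtain ⟨g, rfl⟩ := Forms.glEquiv.surjective g
    exact ⟨g, h, rfl⟩))

theorem g2_val (p : ℕ) [hp : Fact p.Prime] : (Nat.card (zAut (ZMod p))).factorization p ≤ 6 := by
  have : Finite ((Fin 8 → ZMod p) ≃ₗ[ZMod p] (Fin 8 → ZMod p)) := Finite.of_equiv _ Forms.glEquiv.toEquiv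
  have h1 := (MulAction.stabilizer (zAut (ZMod p)) (zE (ZMod p))).card_mul_index
  rw [MulAction.index_stabilizer, ← Nat.card_coe_set_eq,
    Nat.card_congr (Equiv.subtypeEquivRight fun _ => mem_orbit_zE), card_ZI, Nat.card_zmod] at h1
  have h2 := card_dvd_of_injective _ (zRes_injective (F := ZMod p))
  rw [Classical.sl3_card, ZMod.card] at h2
  have h3 : Nat.card (zAut (ZMod p)) ∣ p ^ 6 * ((p ^ 2 - 1) * (p ^ 3 - 1) * (p ^ 3 + 1)) := by
    rw [← h1]
    exact (mul_dvd_mul_right h2 (p ^ 3 * (p ^ 3 + 1))).trans (dvd_of_eq (by ring))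
  have h4 : ∀ i, ¬ p ∣ p ^ (i + 1) - 1 := fun i hd => by
    have := Nat.dvd_sub (dvd_pow_self p (by omega : i + 1 ≠ 0)) hd
    rw [Nat.sub_sub_self (Nat.one_le_pow _ _ hp.out.pos), Nat.dvd_one] at this
    exact hp.out.one_lt.ne' this
  have h5 : ¬ p ∣ (p ^ 2 - 1) * (p ^ 3 - 1) * (p ^ 3 + 1) := by
    rw [hp.out.dvd_mul, hp.out.dvd_mul, Nat.dvd_add_right (dvd_pow_self p (by omega)), Nat.dvd_one]
    exact fun h => h.elim (fun h => h.elim (h4 1) (h4 2)) hp.out.one_lt.ne'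
  have h6 : (p ^ 2 - 1) * (p ^ 3 - 1) * (p ^ 3 + 1) ≠ 0 := fun h0 => h5 (h0 ▸ dvd_zero p)
  have := (Nat.factorization_le_iff_dvd Nat.card_pos.ne'
    (mul_ne_zero (pow_pos hp.out.pos 6).ne' h6)).2 h3 p
  rwa [Nat.factorization_mul (pow_pos hp.out.pos 6).ne' h6, Finsupp.add_apply,
    Nat.factorization_eq_zero_of_not_dvd h5, hp.out.factorization_pow, Finsupp.single_eq_same] at this

end Model

variable {Γ : Type*} [Group Γ] {p : ℕ} [hp : Fact p.Prime] {G Q : Subgroup Γ} {w : Γ}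
  {W : Type*} [AddCommGroup W] [Module (ZMod p) W] {e : W → Γ} {z : W}
  {B : W →ₗ[ZMod p] W →ₗ[ZMod p] ZMod p} {D : Module.End (ZMod p) W}

theorem XLin.exists_cyc (h : XLin Q w e z B D) (hk : Nat.card (LinearMap.ker D) = p ^ 2) :
    (∃ x, D (D (D x)) ≠ 0) ∧ ∀ x, D (D (D (D x))) = 0 := by
  have h1p := hp.out.one_lt
  have : Finite W := Nat.finite_of_card_ne_zero (by rw [h.card]; exact (pow_pos hp.out.pos 5).ne')
  have rk : ∀ (V : Submodule (ZMod p) W) (n : ℕ), Nat.card V = p ^ n → finrank (ZMod p) V = n :=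
    fun V n hV => by
      have := Module.natCard_eq_pow_finrank (K := ZMod p) (V := V)
      rw [hV, Nat.card_zmod] at this
      exact (Nat.pow_right_injective h1p this).symm
  have r5 := rk ⊤ 5 ((Nat.card_congr Submodule.topEquiv.toEquiv).trans h.card)
  rw [finrank_top] at r5
  have r2 := rk _ 2 hk
  have r3 := LinearMap.finrank_range_add_finrank_ker D
  constructor
  · by_contra hc
    push Not at hc
    have hlt : LinearMap.range D ⊓ LinearMap.ker D < LinearMap.ker D := by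
      refine lt_of_le_of_ne inf_le_right fun e => ?_
      obtain ⟨y, hy⟩ := (e.ge h.Dz).1
      exact h.z_ne (hy.symm.trans (h.split y 1 (by rw [hy, one_smul])))
    have h1 := Submodule.finrank_lt_finrank_of_lt hlt
    have h2 := LinearMap.finrank_range_add_finrank_ker (D.domRestrict (LinearMap.range D))
    have h3 : LinearMap.range (D.domRestrict (LinearMap.range D)) ≤ LinearMap.range D ⊓ LinearMap.ker D := by
      rintro _ ⟨⟨_, x, rfl⟩, rfl⟩
      exact ⟨⟨_, rfl⟩, hc x⟩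
    have h4 : (LinearMap.ker (D.domRestrict (LinearMap.range D))).map (LinearMap.range D).subtype ≤
        LinearMap.range D ⊓ LinearMap.ker D := by
      rintro _ ⟨x, hx, rfl⟩
      exact ⟨x.2, hx⟩
    have h5 := Submodule.finrank_mono h3
    have h6 := Submodule.finrank_mono h4
    rw [Submodule.finrank_map_subtype_eq] at h6
    omega
  · intro x
    have hm : Set.MapsTo D (LinearMap.range D) (LinearMap.range D) := fun y _ => ⟨y, rfl⟩
    have hn : IsNilpotent (D.restrict hm) := Module.End.isNilpotent.restrict hm ⟨p, h.Dp⟩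
    have h3 := LinearMap.aeval_self_charpoly (D.restrict hm)
    rw [(LinearMap.isNilpotent_iff_charpoly _).1 hn, show finrank (ZMod p) (LinearMap.range D) = 3 by omega,
      Polynomial.aeval_X_pow] at h3
    exact congrArg Subtype.val (LinearMap.congr_fun h3 ⟨D x, x, rfl⟩)

theorem XCfg.iso_G2 {Γ : Type*} [Group Γ] {p : ℕ} [hp : Fact p.Prime] {G Q : Subgroup Γ} {w : Γ}
    (h : XCfg p G Q w) (h2 : p ≠ 2) (hc : Nat.card (Q ⊓ centralizer {w} : Subgroup Γ) = p ^ 2) :
    5 ≤ p ∧ ∃ P : Sylow p (Cfsg.Lie.G2 (ZMod p)),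
      Nonempty (G ≃* (P : Subgroup (Cfsg.Lie.G2 (ZMod p)))) := by
  obtain ⟨W, _, _, e, z, B, D, l⟩ := h.exists_lin h2
  obtain ⟨⟨x₀, hx₀⟩, h4⟩ := l.exists_cyc (l.ker.trans hc)
  have h3 : p ≠ 3 := by
    rintro rfl
    exact hx₀ (LinearMap.congr_fun l.Dp x₀)
  have h5 : 5 ≤ p := hp.out.five_le_of_ne_two_of_ne_three h2 h3
  have ne : ∀ q : ℕ, q.Prime → p ≠ q → (q : ZMod p) ≠ 0 := fun q hq hpq h0 =>
    hpq ((Nat.prime_dvd_prime_iff_eq hp.out hq).1 ((ZMod.natCast_eq_zero_iff q p).1 h0))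
  have n2 : (2 : ZMod p) ≠ 0 := by exact_mod_cast ne 2 Nat.prime_two h2
  have n3 : (3 : ZMod p) ≠ 0 := by exact_mod_cast ne 3 Nat.prime_three h3
  have skew : ∀ x y, B x y = -B y x := fun x y => by
    have := l.alt (x + y)
    simp only [map_add, LinearMap.add_apply, l.alt] at this
    linear_combination this
  have Bz : ∀ x, B x z = 0 := fun x => by rw [skew, l.Bz]; simp
  -- the values of the form on a cyclic basis
  have val : ∀ x, B (D x) (D (D (D x))) = 0 ∧ B (D (D x)) (D (D (D x))) = 0 ∧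
      B (D x) (D (D x)) = -B x (D (D (D x))) ∧ B x (D (D x)) = B x (D (D (D x))) := fun x => by
    have e1 := l.inv x (D x)
    have e2 := l.inv x (D (D x))
    have e3 := l.inv x (D (D (D x)))
    have e4 := l.inv (D x) (D (D x))
    simp only [h4, map_zero, l.alt] at e1 e2 e3 e4
    exact ⟨by linear_combination e3, by linear_combination e4 - e3, by linear_combination e2 - e3,
      by linear_combination e1 - e2 + e3⟩
  have : Finite W := Nat.finite_of_card_ne_zero (by rw [l.card]; exact (pow_pos hp.out.pos 5).ne')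
  have bij : ∀ x (s : ZMod p), D (D (D x)) ≠ 0 → s ≠ 0 →
      Function.Bijective fun u : ZMod p × ZMod p × ZMod p × ZMod p × ZMod p =>
        u.1 • x + u.2.1 • D x + u.2.2.1 • D (D x) + u.2.2.2.1 • D (D (D x)) + (u.2.2.2.2 * s) • z := by
    intro x s hx hs
    refine (Nat.bijective_iff_injective_and_card _).2 ⟨?_, by
      simp only [Nat.card_prod, Nat.card_zmod, l.card]; ring⟩
    refine (injective_iff_map_eq_zero (AddMonoidHom.mk' (fun u : ZMod p × ZMod p × ZMod p × ZMod p × ZMod p =>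
      u.1 • x + u.2.1 • D x + u.2.2.1 • D (D x) + u.2.2.2.1 • D (D (D x)) + (u.2.2.2.2 * s) • z) fun u v => by
        simp only [Prod.fst_add, Prod.snd_add]; module)).2 fun ⟨a, b, c, d, t⟩ h0 => ?_
    have h0 : a • x + b • D x + c • D (D x) + d • D (D (D x)) + (t * s) • z = 0 := h0
    obtain rfl : a = 0 := by simpa [h4, l.Dz, hx] using congrArg (fun y => D (D (D y))) h0
    obtain rfl : b = 0 := by simpa [h4, l.Dz, hx] using congrArg (fun y => D (D y)) h0
    obtain rfl : c = 0 := by simpa [h4, l.Dz, hx] using congrArg D h0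
    obtain rfl : d = 0 := by
      have := l.split (d • D (D x)) (-(t * s)) (by rw [map_smul]; linear_combination (norm := module) h0)
      simpa [hx] using this
    obtain rfl : t = 0 := by simpa [hs, l.z_ne] using h0
    rfl
  have hc₀ : B x₀ (D (D (D x₀))) ≠ 0 := fun h0 => by
    obtain ⟨c, hc⟩ := l.rad (D (D (D x₀))) (LinearMap.ext fun y => by
      obtain ⟨u, rfl⟩ := (bij x₀ 1 hx₀ one_ne_zero).2 y
      rw [skew]
      simp [h0, (val x₀).1, (val x₀).2.1, l.alt, l.Bz])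
    exact hx₀ (l.split _ c hc)
  obtain ⟨x, s, hx, hs, b1, b3⟩ : ∃ x s, D (D (D x)) ≠ 0 ∧ s ≠ 0 ∧ B x (D x) = -2 * s ∧
      B x (D (D (D x))) = -12 * s := by
    obtain ⟨v1, v2, v3, v4⟩ := val x₀
    set c := B x₀ (D (D (D x₀))) with hc
    have n12 : (12 : ZMod p) ≠ 0 := by
      rw [show (12 : ZMod p) = 2 * 2 * 3 by norm_num]; exact mul_ne_zero (mul_ne_zero n2 n2) n3
    refine ⟨x₀ + ((12 : ZMod p)⁻¹ - B x₀ (D x₀) * (2 * c)⁻¹) • D (D x₀), -c / 12, by simpa [h4] using hx₀,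
      div_ne_zero (neg_ne_zero.2 hc₀) n12, ?_, ?_⟩
    · simp only [map_add, map_smul, LinearMap.add_apply, LinearMap.smul_apply, smul_eq_mul, v2, ← hc,
        skew (D (D x₀)) (D x₀), v3]
      field_simp
      ring
    · simp only [map_add, map_smul, LinearMap.add_apply, LinearMap.smul_apply, smul_eq_mul, v2, ← hc, h4,
        smul_zero, add_zero]
      field_simp
      ring
  obtain ⟨v1, v2, v3, v4⟩ := val x
  obtain ⟨w', hw'⟩ := exists_zT (0 : ZMod p) 1 0
  have hwn : ∀ (n : ℕ) y, (w' ^ n).1 y = zT 0 (n : ZMod p) 0 y := fun n => by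
    induction n with
    | zero => intro y; apply ext8 <;> simp [zT_apply]
    | succ n ih => intro y; rw [pow_succ, coe_mul, LinearEquiv.mul_apply, ih, hw', zT_add, Nat.cast_succ]
  obtain ⟨Ψ, hΨ⟩ := h.exists_inj (M := g2M) (w' := w') (μ := g2μ) (γ := g2γ) (fun u => l.mem _)
    (l.inj.comp (bij x s hx hs).1)
    (fun y hy => by
      obtain ⟨y, rfl⟩ := l.surj y hy
      obtain ⟨u, rfl⟩ := (bij x s hx hs).2 y
      exact ⟨u, rfl⟩)
    (fun u v => (l.mul _ _).trans (congrArg e (by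
      simp only [g2μ, map_add, map_smul, LinearMap.add_apply, LinearMap.smul_apply, smul_eq_mul, l.alt,
        l.Bz, Bz, LinearMap.zero_apply, skew (D x) x, skew (D (D x)) x, skew (D (D (D x))) x,
        skew (D (D x)) (D x), skew (D (D (D x))) (D x), skew (D (D (D x))) (D (D x)), v1, v2, v3, v4, b1, b3]
      module)))
    (fun u => (l.conj _).trans (congrArg e (by
      simp only [g2γ, map_add, map_smul, h4, l.Dz]
      module)))
    (fun u v => Subtype.ext (LinearEquiv.ext (g2L_mul u v)))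
    (fun u => by
      rw [mul_inv_eq_iff_eq_mul]
      refine Subtype.ext (LinearEquiv.ext fun y => ?_)
      simp only [coe_mul, LinearEquiv.mul_apply, hw', g2M_apply, zT_g2L])
    (Subtype.ext (LinearEquiv.ext fun y => by
      rw [hwn, ZMod.natCast_self]; apply ext8 <;> simp [zT_apply]))
    (g2M_injective n2 n3)
    (fun u hu => by
      have := congrFun (hw' (Pi.single 5 1)) 0
      rw [← hu, g2M_apply] at this
      simp [g2L_apply, g2f, zT_apply] at this)
  have : Finite (G2 (ZMod p)) := inferInstance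
  refine ⟨h5, h.exists_sylow (Ψ := (g2Equiv (ZMod p)).symm.toMonoidHom.comp Ψ)
    ((g2Equiv (ZMod p)).symm.injective.comp hΨ) ?_⟩
  rw [Nat.card_congr (g2Equiv _).toEquiv]
  exact g2_val p

end CfsgLib.Fus3
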