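import Mathlib
import Cfsg.Agent.Lib.Fus3.XB1
import Cfsg.Agent.Lib.Fus2.PT

/-!
The case of a pearl of order `p ^ 2`, and the reduction to the configurations of order `p ^ 6`.
-/

set_option autoImplicit false
set_option linter.unusedSectionVars false

namespace CfsgLib.Fus3

open Subgroup Cfsg CfsgLib.LAE CfsgLib.Fusion CfsgLib.Fus2 CfsgLib.MaxCl
open Cfsg.FusionSystem hiding inv_mem
open scoped commutatorElement

variable {Γ : Type*} [Group Γ] [Finite Γ] {p n : ℕ} [hp : Fact p.Prime] {S Q Z E M : Subgroup Γ}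
  {g x u : Γ} {a b : ℤ}

theorem XQ.mc_wt (h : XQ p S Q Z) (m : MC S p n) (hu : u ∈ S)
    (hc : ∀ y ∈ Q, Commute y u → y ∈ Z) (huQ : u ∉ Q) (hup : u ^ p = 1)
    (hg : g ∈ normalizer (S : Set Γ)) (hab : ((a * b : ℤ) : ZMod p) = 1)
    (ha : ∀ k : ℕ, (a : ZMod p) ^ k = 1 → p - 1 ∣ k) (wZ : Wt g a ⊥ Z) (wu : Ew g b Z u) :
    n = p - 1 ∧ (∀ s ∈ S, s ^ p = 1) ∧ (n = 6 → ∃ w, XCfg p S Q w ∧
      Nat.card (Q ⊓ centralizer {w} : Subgroup Γ) = p ^ 2) := by
  have p1 := hp.out.one_lt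
  have cQ : Nat.card Q = p ^ (n - 1) := card_eq_of_relIndex' h.QS (by
    rw [m.card, ← pow_succ]; congr 1; have := m.three; omega) h.iQ
  have n6 : 6 ≤ n := by
    have := h.big
    rw [cQ, Nat.pow_le_pow_iff_right p1] at this
    omega
  have eZ : lc S (n - 2) = Z := (eq_of_le_card (mc_center m ▸ le_inf h.ZS
    (le_centralizer_iff.1 h.SZ)) (by
      rw [mc_card_lc m (by omega), h.cardZ, show n - 1 - (n - 2) = 1 by omega, pow_one])).symm
  have l1 := mc_lc_le m h.QS h.iQ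
  have eK : ∀ i, 1 ≤ i → i + 4 ≤ n → Q = kc S i := fun i h1 h2 =>
    (eq_or_eq_prime h.iQ (fun q hq => mem_kc.2 ⟨h.QS hq, fun y hy => lc_anti S (by omega)
      (eZ.ge (h.cm hq (l1 (lc_anti S h1 hy))))⟩) (kc_le S i)).elim Eq.symm fun e =>
        (not_le_of_relIndex_prime (mc_idx_kc m h1 (by omega)) e.ge).elim
  have i3 := mc_idx_lc m (i := n - 3) (by omega) (by omega)
  rw [show n - 3 + 1 = n - 2 by omega, eZ] at i3
  have l3 : lc S (n - 3) ≤ Q := (lc_anti S (by omega)).trans l1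
  have uK : ∀ i, 1 ≤ i → i + 3 ≤ n → u ∉ kc S i := fun i h1 h2 H => by
    rcases Nat.lt_or_eq_of_le h2 with h3 | h3
    · exact huQ (eK i h1 h3 ▸ H)
    · rw [show i = n - 3 by omega, mc_kc_last m] at H
      exact not_le_of_relIndex_prime i3 fun y hy => hc y (l3 hy) (commute_of_mem H.2 hy).symm
  have gQ : g ∈ normalizer (Q : Set Γ) := eK 1 le_rfl (by omega) ▸ n_kc hg 1
  have wQ : Wt g b Q S := h.sup_eq hu huQ ▸ (wu.mono h.ZQ).wt gQ (h.SQ hu)
  have wK : ∀ i, 1 ≤ i → i + 3 ≤ n → Wt g b (kc S i) S := fun i h1 h2 =>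
    (wu.mono (eZ.ge.trans ((lc_anti S (by omega)).trans (lc_le_kc S i)))).wt_prime h.pS (kc_le S i)
      (mc_idx_kc m h1 h2) hu (uK i h1 h2) (n_kc hg i)
  have i1 := mc_idx_max m l1 h.QS h.iQ
  obtain ⟨c, w0⟩ := exists_wt h.pQ l1 i1 (n_lc hg 1) gQ
  have wL : ∀ i, i + 3 ≤ n → Wt g (b ^ (i + 1) * c) (lc S (i + 2)) (lc S (i + 1)) := fun i => by
    induction i with
    | zero => exact fun _ => by simpa using mc_wt_one m hg h.QS h.iQ wQ w0
    | succ i ih =>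
      intro H
      rw [pow_succ', mul_assoc]
      exact mc_wt_succ m hg (by omega) H (wK _ (by omega) H) (ih (by omega))
  have w1 := wL (n - 3) (by omega)
  have w2 := wL (n - 4) (by omega)
  rw [show n - 3 + 2 = n - 1 by omega, mc_lc_bot m le_rfl, show n - 3 + 1 = n - 2 by omega, eZ] at w1
  rw [show n - 4 + 2 = n - 2 by omega, show n - 4 + 1 = n - 3 by omega, eZ] at w2
  have pZ := h.pQ.to_le h.ZQ
  have e1 := w1.unique wZ pZ (not_le_of_relIndex_prime (by rw [relIndex_bot_left, h.cardZ]))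
  have cb : ∀ {U V : Subgroup Γ}, U ≤ centralizer (V : Set Γ) → ⁅U, V⁆ ≤ ⊥ := fun H =>
    (commutator_eq_bot_iff_le_centralizer.2 H).le
  have e2 : ((c * (b ^ (n - 3) * c) : ℤ) : ZMod p) = a := by_contra fun H =>
    not_le_of_relIndex_prime i3 fun y hy => h.mem_Z (l3 hy) fun q hq => mem_bot.1 (cm_swap
      (commutator_le.1 (comm_le_of_wt pZ (norm_bot ⊤ trivial) (norm_bot Q) (norm_bot _) (n_lc hg _)
        (h.cQ ▸ commutator_mono le_rfl l3) (cb (h.QS.trans h.SZ)) (cb ((lc_le S _).trans h.SZ))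
        (commutator_le.2 fun v hv w hw => (mc_lc_bot m (by omega)).le (cm_lc₂ hv hw))
        (cb (h.QS.trans h.SZ)) w0 w2 wZ H) q hq y hy))
  push_cast at e1 e2 hab
  have a0 : (a : ZMod p) ≠ 0 := fun e => by simp [e] at hab
  have b0 : (b : ZMod p) ≠ 0 := fun e => by simp [e] at hab
  have e3 : (c : ZMod p) = b := by
    rw [show n - 2 = n - 3 + 1 by omega, pow_succ] at e1
    have c0 : (b : ZMod p) ^ (n - 3) * c ≠ 0 := fun e => a0 (by rw [← e2, e, mul_zero])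
    exact mul_right_cancel₀ c0 (by linear_combination e2 - e1)
  have e4 : (a : ZMod p) ^ n = 1 := by
    have : ((a : ZMod p) * b) ^ (n - 1) = 1 := by rw [hab, one_pow]
    rw [mul_pow, show n - 1 = n - 2 + 1 by omega, pow_succ (b : ZMod p), ← e3] at this
    rw [e3] at e1
    rw [← this, e3, e1, ← pow_succ, show n - 2 + 1 + 1 = n by omega]
  have e5 : n ≤ p + 1 := by_contra fun H => by
    obtain ⟨y, hy, hy1⟩ := exists_not_mem i1
    exact m.pow_not_mem_K (y := ⟨y, h.QS hy⟩) (by omega) (mem_kc'.2 (eK 1 le_rfl (by omega) ▸ hy))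
      (fun H => hy1 (mem_lc.1 H)) (mem_lc.2 (lc_anti S (by omega) (eZ.ge (h.powZ hy))))
  have e6 : n = p - 1 := by
    obtain ⟨k, hk⟩ := ha n e4
    rcases k with _ | _ | k
    · omega
    · omega
    · have : (p - 1) * (k + 1 + 1) = 2 * (p - 1) + (p - 1) * k := by ring
      omega
  have pL : ∀ y ∈ lc S 1, y ^ p = 1 := fun y hy => (mc_lc_bot m (by omega)).le
    (mem_lc.1 (m.pow_mem (g := ⟨y, lc_le S 1 hy⟩) le_rfl (mem_lc.2 hy)))
  have Qom : Q ≤ h.om := h.om_step (fun y hy => ⟨l1 hy, pL y hy⟩) le_rfl w0 wZ fun e => by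
    have := Nat.le_of_dvd two_pos (ha 2 (by rw [← hab, ← e3, e, sq]))
    omega
  have ex : ∀ s ∈ S, s ^ p = 1 := fun s hs => by
    obtain ⟨q, hq, i, rfl⟩ := exists_eq_mul_zpow h.pS h.QS h.iQ hu huQ hs
    have := hp_mem (G := S) hp.out (a := ⟨q, h.QS hq⟩) (b := ⟨u ^ i, S.zpow_mem hu i⟩) (m := 1)
      (N := ⊥) (comm_mem_L (i := 0) (mem_top _) _)
      (fun c hc => Subtype.ext (pL c (mem_lc.1 hc))) (m.L_eq_bot (by omega)).le
    have := congrArg Subtype.val (inv_mul_eq_one.1 (mem_bot.1 this))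
    simp only [MulMemClass.mk_mul_mk, SubmonoidClass.mk_pow] at this
    rw [this, (Qom hq).2, pow_eq_one_zpowers hup _ (zpow_mem_zpowers u i), mul_one]
  refine ⟨e6, ex, fun e => ?_⟩
  have j3 := mc_idx_kc m (i := n - 3) (by omega) (by omega)
  obtain ⟨w, hw, hwQ⟩ := SetLike.not_le_iff_exists.1 fun H : kc S (n - 3) ≤ Q =>
    not_le_of_relIndex_prime i3 fun y hy => h.mem_Z (l3 hy) fun q hq => by
      have := (eq_or_eq_prime j3 H h.QS).resolve_right
        (fun e => not_le_of_relIndex_prime h.iQ e.ge) ▸ hq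
      rw [mc_kc_last m] at this
      exact cm_eq_one' this.2 hy
  have wS := kc_le S _ hw
  rw [mc_kc_last m] at hw
  have key : ∀ y ∈ Q, ⁅w, y⁆ ∈ Z → y ∈ lc S (n - 3) := fun y hy H =>
    mc_mem_of_comm m (by omega) (by omega) (h.QS hy) (by
      rw [show n - 3 + 1 = n - 2 by omega, eZ, ← h.sup_eq wS hwQ]
      exact cm_sup_zpowers (h.QS.trans h.SnZ) (h.SnZ wS) (fun _ => h.cm hy) (cm_swap H))
  refine ⟨w, ⟨h.QS, e ▸ m.card, h.extra, by rw [cQ, e], fun q hq => ex q (h.QS hq), wS, hwQ,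
    ex w wS, fun y hy H => cm_eq_one hw.2 (key y hy (h.eZ ▸ ⟨h.cmQ wS (h.QS hy), H⟩))⟩, ?_⟩
  have : Q ⊓ centralizer {w} = lc S (n - 3) := le_antisymm (fun y hy => key y hy.1 (by
      rw [(Commute.symm (mem_centralizer_singleton_iff.1 hy.2)).commutator_eq]; exact one_mem _))
    fun y hy => ⟨l3 hy, cm_eq_one_iff_mem.1 (cm_eq_one' hw.2 hy)⟩
  rw [this, mc_card_lc m (by omega), e]

theorem XB.pearl (h : XB p S Q Z E M g x u) {F : FusionSystem S} (hl : LR p F)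
    (hE : F.IsEssential p E) (hM : AMod p F E M) (eD : E ⊓ Q = Z)
    (hi : E.relIndex (normalizerIn S E) = p) : ∃ n, MC S p n ∧ n = p - 1 ∧ (∀ s ∈ S, s ^ p = 1) ∧
      (n = 6 → ∃ w, XCfg p S Q w ∧ Nat.card (Q ⊓ centralizer {w} : Subgroup Γ) = p ^ 2) := by
  have p1 := hp.out.one_lt
  have iZ : Z.relIndex E = p := eD ▸ h.iD
  have cE : Nat.card E = p ^ 2 := by rw [card_eq_of_relIndex h.ZE h.cardZ iZ, sq]
  have P := h.par hi
  have s : NatSec p _ E _ ⊥ E := ⟨P, bot_le, le_rfl, norm_bot _, P.norm,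
    by rw [relIndex_bot_left, cE], P.res_not_le⟩
  obtain ⟨a, b, hab, ha⟩ := exists_gen p
  obtain ⟨t, ht, -, tN, -, v, hv, w, hw, k1, k2, k3, k4, k5⟩ := s.exists_torus hab
  have vZ : v ∈ Z := by_contra fun H => not_le_of_relIndex_prime hi fun y hy =>
    h.cent y (h.GL' hy) (sup_zpowers_eq h.ZE iZ hv H ▸ mem_centralizer_sup_zpowers (h.SZ hy.1)
      (commutatorElement_eq_one_iff_commute.1 (k3 y hy)))
  have eZ := h.zpowers_eq vZ k1
  rw [bot_sup_eq, eZ] at k2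
  have tZ := h.nZ_of_nN (h.LM ht) tN
  have w1 : Wt t a ⊥ Z := by
    have := Ew.wt k4 (norm_bot ⊤ trivial) (norm_bot ⊤ trivial)
    rwa [bot_sup_eq, eZ] at this
  have w2 : Wt t b Z E := sup_zpowers_eq h.ZE iZ hw k2 ▸
    (Ew.mono k5 bot_le).wt tZ (h.SnZ (h.ES hw))
  have lt := essential_lt_normalizerIn hl.pS hl.sat hE
  obtain ⟨f, hf, e⟩ := hl.ext_sq (fun R hR c3 H _ => by
      have ZR : Z ≤ R := fun z hz =>
        essential_mem_of_comm hR (h.ZS hz) fun x hx => h.com (hR.1.1 hx) hz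
      have j : (R ⊓ Q).relIndex R ≤ p := by
        rw [inf_relIndex_left, ← h.iQ]
        exact relIndex_le_of_le_right hR.1.1 (relIndex_pos' _ _).ne'
      obtain ⟨y, hy, hyZ⟩ := SetLike.not_le_iff_exists.1 fun H' : R ⊓ Q ≤ Z => by
        have h1 := card_eq_of_relIndex (inf_le_left : R ⊓ Q ≤ R) rfl rfl
        have h2 := card_le_of_le' H'
        rw [c3] at h1
        rw [h.cardZ] at h2
        exact not_pow_le (p := p) (a := 3) (b := 2) (by rw [h1, sq]; exact Nat.mul_le_mul h2 j)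
          (by omega)
      have c2 : Nat.card (Z ⊔ zpowers y : Subgroup Γ) = p ^ 2 := by
        rw [card_eq_of_relIndex le_sup_left h.cardZ
          (relIndex_sup_zpowers (h.SnZ (h.QS hy.2)) hyZ (h.powZ hy.2)), sq]
      have c := centric_centralizerIn_le (H _ (sup_le ZR (zpowers_le.2 hy.1)) c2)
      refine h.not_ab (sup_le h.ZQ (zpowers_le.2 hy.2)) (sup_zpowers_le_centralizer
        (h.ZS.trans h.SZ) (h.SZ (h.QS hy.2))) (le_trans (relIndex_le_of_le_left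
          (H := Q ⊓ centralizer {y}) (fun q hq => c ⟨h.QS hq.1, mem_centralizer_sup_zpowers
            (h.SZ (h.QS hq.1)) (mem_centralizer_singleton_iff.1 hq.2)⟩) (relIndex_pos' _ _).ne') ?_)
      rw [inf_relIndex_left, ← h.cardZ]
      exact relIndex_cent_le fun r hr => h.cm hy.2 hr)
    (hM.mor _ le_rfl t (h.LM ht) fun x hx => conj_mem tN hx) lt hE.1 cE
  obtain ⟨M', -, hM', l⟩ := hl.exists_top
  obtain ⟨k, hk, e'⟩ := l f hf
  have e2 : ∀ y ∈ E, t * y * t⁻¹ = k * y * k⁻¹ := fun y hy => by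
    rw [← e' y (h.ES hy), e y (h.le hy)]
  obtain ⟨n, hn⟩ := exists_card_eq h.pS
  have m := mc_of_cent hn (by
    have := h.big.trans (card_le_of_le' h.QS)
    rw [hn, Nat.pow_le_pow_iff_right p1] at this
    omega) h.ES cE fun y hy hc => centric_centralizerIn_le hE.1 ⟨hy, hc⟩
  exact ⟨n, m, h.mc_wt m h.uS (fun y hy hc => eD.le ⟨h.mem (h.QS hy) hc, hy⟩) h.uQ h.up (hM'.norm hk)
    hab ha (w1.congr fun y hy => e2 y (h.ZE hy)) (w2.congr e2 u h.uE)⟩

theorem XQ.main (h : XQ p S Q Z) {F : FusionSystem S} (hl : LR p F) (hO : F.core = ⊥) :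
    (∃ w, XCfg p S Q w ∧ (Nat.card (Q ⊓ centralizer {w} : Subgroup Γ) = p ^ 2 ∨
      Nat.card (Q ⊓ centralizer {w} : Subgroup Γ) = p ^ 3)) ∨
    (11 ≤ p ∧ MC S p (p - 1) ∧ ∀ s ∈ S, s ^ p = 1) := by
  obtain ⟨E, M, hE, hM, m⟩ := exists_xM h hl hO
  by_cases hA : ∀ g ∈ M, ∀ x ∈ Z, g * x * g⁻¹ ∈ Q
  · exact Or.inl (m.caseA hA)
  push Not at hA
  obtain ⟨g, hg, x, hx, hu⟩ := hA
  have b : XB p S Q Z E M g x _ := ⟨m, hg, hx, rfl, hu⟩
  by_cases hB : ∀ y ∈ Q, ⁅g * x * g⁻¹, y⁆ ∈ Z → ⁅g * x * g⁻¹, y⁆ = 1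
  · exact Or.inl ⟨_, (b.b1 hB).1, Or.inr (b.b1 hB).2⟩
  push Not at hB
  obtain ⟨y, h0, h1, h2⟩ := hB
  obtain ⟨e, i⟩ := b.b2 h0 h1 h2
  obtain ⟨n, c, e1, e2, e3⟩ := b.pearl hl hE hM e i
  by_cases h6 : n = 6
  · obtain ⟨w, h3, h4⟩ := e3 h6
    exact Or.inl ⟨w, h3, Or.inl h4⟩
  refine Or.inr ⟨?_, e1 ▸ c, e2⟩
  have p1 := hp.out.one_lt
  have h3 := h.big
  rw [card_eq_of_relIndex' (a := p ^ (n - 1)) h.QS (by
    rw [c.card, ← pow_succ]; congr 1; have := c.three; omega) h.iQ,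
    Nat.pow_le_pow_iff_right p1] at h3
  by_contra H
  have : p = 8 ∨ p = 9 ∨ p = 10 := by omega
  rcases this with e | e | e <;> exact absurd (e ▸ hp.out) (by decide)

theorem extra_of_equiv {G H : Type*} [Group G] [Group H] [Finite G] (h : IsExtraspecial p G)
    (e : G ≃* H) : IsExtraspecial p H := by
  have : Finite H := Finite.of_equiv G e.toEquiv
  have hz : ∀ x, e x ∈ center H ↔ x ∈ center G := fun x => by
    simp only [mem_center_iff]
    exact ⟨fun h y => e.injective (by rw [map_mul, map_mul, h]), fun h y => by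
      obtain ⟨y, rfl⟩ := e.surjective y; rw [← map_mul, h, map_mul]⟩
  refine PGroup.isExtraspecial_of_commutator_le_center (h.1.1.of_equiv e) ?_ ?_ fun h1 =>
    PGroup.IsExtraspecial.not_isMulCommutative h (comm_of_equiv e.symm h1)
  · rw [← h.2]
    exact (Nat.card_congr (e.toEquiv.subtypeEquiv fun x => (hz x).symm)).symm
  · refine commutator_le.2 fun a _ b _ => ?_
    obtain ⟨a, rfl⟩ := e.surjective a
    obtain ⟨b, rfl⟩ := e.surjective b
    rw [← map_commutatorElement, hz]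
    exact PGroup.IsExtraspecial.commutatorElement_mem_center h a b

end CfsgLib.Fus3
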